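import Mathlib
import Cfsg.Prelude.Def_GeometricClasses
import Cfsg.Agent.H873.Tv
set_option linter.all false

-- part: H923/Unip
section
/-!
Square-zero unipotents and transvections in subgroups of `V ≃ₗ[F] V`.

* `U1 L α` : the map `z ↦ z + α z` is (induced by) an element of `L`;
* `Tv L x φ` : `φ x = 0` and the transvection `z ↦ z + φ z • x` lies in `L`.
-/

set_option autoImplicit false

namespace Cfsg.Agent.H923

open Module

section Basic

variable {F V : Type*} [Field F] [AddCommGroup V] [Module F V]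

/-- `1 + α` lies in `L`. -/
def U1 (L : Subgroup (V ≃ₗ[F] V)) (α : V →ₗ[F] V) : Prop := ∃ g ∈ L, ∀ z, g z = z + α z

/-- The transvection `z ↦ z + φ z • x` lies in `L` (and `φ x = 0`). -/
def Tv (L : Subgroup (V ≃ₗ[F] V)) (x : V) (φ : V →ₗ[F] F) : Prop :=
  φ x = 0 ∧ ∃ g ∈ L, ∀ z, g z = z + φ z • x

variable {L : Subgroup (V ≃ₗ[F] V)}

theorem U1.zero : U1 L 0 := ⟨1, L.one_mem, fun z => by simp⟩

theorem U1.mul {α β : V →ₗ[F] V} (hα : U1 L α) (hβ : U1 L β) : U1 L (α + β + α ∘ₗ β) := by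
  obtain ⟨g, hg, hgz⟩ := hα
  obtain ⟨h, hh, hhz⟩ := hβ
  refine ⟨g * h, L.mul_mem hg hh, fun z => ?_⟩
  rw [LinearEquiv.mul_apply, hhz, hgz]
  simp only [map_add, LinearMap.add_apply, LinearMap.comp_apply]
  abel

theorem U1.add {α β : V →ₗ[F] V} (hα : U1 L α) (hβ : U1 L β) (h : α ∘ₗ β = 0) :
    U1 L (α + β) := by
  have := hα.mul hβ
  rwa [h, add_zero] at this

theorem U1.neg {α : V →ₗ[F] V} (hα : U1 L α) (h : α ∘ₗ α = 0) : U1 L (-α) := by
  obtain ⟨g, hg, hgz⟩ := hα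
  have h' : ∀ z, α (α z) = 0 := fun z => by
    have := LinearMap.congr_fun h z
    simpa using this
  refine ⟨g⁻¹, L.inv_mem hg, fun z => ?_⟩
  have h1 : g (z + (-α) z) = z := by
    rw [hgz]
    simp [h']
  have h2 : g⁻¹ (g (z + (-α) z)) = z + (-α) z := by
    rw [← LinearEquiv.mul_apply, inv_mul_cancel, LinearEquiv.coe_one, id]
  rw [← h2, h1]

theorem U1.conj {α : V →ₗ[F] V} (hα : U1 L α) {g : V ≃ₗ[F] V} (hg : g ∈ L) :
    U1 L ((g : V →ₗ[F] V) ∘ₗ α ∘ₗ (g.symm : V →ₗ[F] V)) := by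
  obtain ⟨h, hh, hhz⟩ := hα
  refine ⟨g * h * g⁻¹, L.mul_mem (L.mul_mem hg hh) (L.inv_mem hg), fun z => ?_⟩
  rw [LinearEquiv.mul_apply, LinearEquiv.mul_apply, hhz, map_add]
  have h1 : g (g⁻¹ z) = z := by
    rw [← LinearEquiv.mul_apply, mul_inv_cancel, LinearEquiv.coe_one, id]
  rw [h1]
  rfl

/-- Conjugation of `1 + β` by `1 + α`, `α² = 0`. -/
theorem U1.conj_U1 {α β : V →ₗ[F] V} (hα : U1 L α) (hβ : U1 L β) (h : α ∘ₗ α = 0) :
    U1 L (β + α ∘ₗ β - β ∘ₗ α - α ∘ₗ β ∘ₗ α) := by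
  obtain ⟨g, hg, hgz⟩ := hα
  have h' : ∀ z, α (α z) = 0 := fun z => by
    have := LinearMap.congr_fun h z
    simpa using this
  have hsymm : ∀ z, g.symm z = z - α z := by
    intro z
    rw [LinearEquiv.symm_apply_eq, hgz]
    simp [h']
  have h2 := hβ.conj hg
  convert h2 using 1
  ext z
  simp only [LinearMap.sub_apply, LinearMap.add_apply, LinearMap.comp_apply,
    LinearEquiv.coe_coe, hsymm, hgz, map_sub]
  abel

/-- The commutator of `1 + α` and `1 + β`, when `β α = 0`. -/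
theorem U1.comm {α β : V →ₗ[F] V} (hα : U1 L α) (hβ : U1 L β) (h : α ∘ₗ α = 0)
    (h' : β ∘ₗ β = 0) (hba : β ∘ₗ α = 0) : U1 L (α ∘ₗ β) := by
  have h1 := hα.conj_U1 hβ h
  rw [hba, LinearMap.comp_zero, sub_zero, sub_zero] at h1
  have h2 := h1.mul (hβ.neg h')
  convert h2 using 1
  ext z
  have e : ∀ w, β (β w) = 0 := fun w => by
    have := LinearMap.congr_fun h' w
    simpa using this
  simp [e]

theorem Tv.u1 {x : V} {φ : V →ₗ[F] F} (h : Tv L x φ) : U1 L (φ.smulRight x) := h.2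

theorem tv_iff {x : V} {φ : V →ₗ[F] F} : Tv L x φ ↔ φ x = 0 ∧ U1 L (φ.smulRight x) := Iff.rfl

theorem Tv.zero_right (x : V) : Tv L x 0 := ⟨rfl, 1, L.one_mem, fun z => by simp⟩

theorem Tv.zero_left (φ : V →ₗ[F] F) : Tv L 0 φ := ⟨map_zero _, 1, L.one_mem, fun z => by simp⟩

theorem Tv.add_right {x : V} {φ ψ : V →ₗ[F] F} (hφ : Tv L x φ) (hψ : Tv L x ψ) :
    Tv L x (φ + ψ) := by
  obtain ⟨h0, g, hg, hgz⟩ := hφ
  obtain ⟨h0', h, hh, hhz⟩ := hψ
  refine ⟨by simp [h0, h0'], g * h, L.mul_mem hg hh, fun z => ?_⟩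
  rw [LinearEquiv.mul_apply, hhz, hgz, map_add, map_smul, h0, smul_zero, add_zero,
    LinearMap.add_apply, add_smul]
  abel

theorem Tv.add_left {x y : V} {φ : V →ₗ[F] F} (hx : Tv L x φ) (hy : Tv L y φ) :
    Tv L (x + y) φ := by
  obtain ⟨h0, g, hg, hgz⟩ := hx
  obtain ⟨h0', h, hh, hhz⟩ := hy
  refine ⟨by simp [h0, h0'], g * h, L.mul_mem hg hh, fun z => ?_⟩
  rw [LinearEquiv.mul_apply, hhz, hgz, map_add, map_smul, h0', smul_zero, add_zero, smul_add]
  abel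

theorem Tv.neg_right {x : V} {φ : V →ₗ[F] F} (h : Tv L x φ) : Tv L x (-φ) := by
  have h1 : U1 L (-(φ.smulRight x)) := by
    refine h.u1.neg ?_
    ext z
    simp [h.1]
  refine ⟨by simp [h.1], ?_⟩
  obtain ⟨g, hg, hgz⟩ := h1
  exact ⟨g, hg, fun z => by rw [hgz]; simp⟩

theorem Tv.sub_right {x : V} {φ ψ : V →ₗ[F] F} (hφ : Tv L x φ) (hψ : Tv L x ψ) :
    Tv L x (φ - ψ) := by
  rw [sub_eq_add_neg]; exact hφ.add_right hψ.neg_right

theorem tv_smul_comm (c : F) (x : V) (φ : V →ₗ[F] F) : Tv L (c • x) φ ↔ Tv L x (c • φ) := by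
  unfold Tv
  simp only [map_smul, LinearMap.smul_apply, smul_eq_mul, smul_smul]
  simp only [mul_comm]

theorem Tv.conj {x : V} {φ : V →ₗ[F] F} (h : Tv L x φ) {g : V ≃ₗ[F] V} (hg : g ∈ L) :
    Tv L (g x) (φ ∘ₗ (g.symm : V →ₗ[F] V)) := by
  refine ⟨by simp [h.1], ?_⟩
  obtain ⟨k, hk, hkz⟩ := h.u1.conj hg
  refine ⟨k, hk, fun z => ?_⟩
  rw [hkz]
  simp

/-- The commutator of two transvections `1 + v ⊗ ψ`, `1 + a ⊗ α` with `ψ a = 0`. -/
theorem Tv.comm {v a : V} {ψ α : V →ₗ[F] F} (hv : Tv L v ψ) (ha : Tv L a α) (h : ψ a = 0) :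
    Tv L a (α v • ψ) := by
  have h1 := ha.u1.comm hv.u1 (by ext z; simp [ha.1]) (by ext z; simp [hv.1])
    (by ext z; simp [h])
  refine ⟨by simp [h], ?_⟩
  obtain ⟨g, hg, hgz⟩ := h1
  refine ⟨g, hg, fun z => ?_⟩
  rw [hgz]
  simp [mul_comm]

theorem U1.mono {L' : Subgroup (V ≃ₗ[F] V)} {α : V →ₗ[F] V} (h : U1 L α) (hL : L ≤ L') :
    U1 L' α := by
  obtain ⟨g, hg, hgz⟩ := h
  exact ⟨g, hL hg, hgz⟩

theorem Tv.mono {L' : Subgroup (V ≃ₗ[F] V)} {x : V} {φ : V →ₗ[F] F} (h : Tv L x φ) (hL : L ≤ L') :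
    Tv L' x φ := ⟨h.1, h.u1.mono hL⟩

end Basic

end Cfsg.Agent.H923
end

-- part: H923/MatBridge
section
/-!
Bridge between subgroups of `GL ι F` and subgroups of `(ι → F) ≃ₗ[F] (ι → F)`.
-/

set_option autoImplicit false

namespace Cfsg.Agent.H923

open Module Matrix Cfsg.Geo
open scoped Matrix MatrixGroups

variable {ι : Type} [Fintype ι] [DecidableEq ι] {F : Type*} [Field F]

/-- The isomorphism of `GL ι F` with the group of linear automorphisms. -/
noncomputable def glE (ι : Type) [Fintype ι] [DecidableEq ι] (F : Type*) [Field F] :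
    GL ι F ≃* ((ι → F) ≃ₗ[F] (ι → F)) :=
  (Matrix.GeneralLinearGroup.toLin (n := ι) (R := F)).trans
    (LinearMap.GeneralLinearGroup.generalLinearEquiv F (ι → F))

theorem glE_apply (g : GL ι F) (z : ι → F) : glE ι F g z = (g : Matrix ι ι F) *ᵥ z := rfl

/-- The image of a subgroup. -/
noncomputable def toE (L : Subgroup (GL ι F)) : Subgroup ((ι → F) ≃ₗ[F] (ι → F)) :=
  L.map (glE ι F).toMonoidHom

theorem mem_toE {L : Subgroup (GL ι F)} {g : GL ι F} (hg : g ∈ L) : glE ι F g ∈ toE L :=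
  ⟨g, hg, rfl⟩

theorem exists_of_mem_toE {L : Subgroup (GL ι F)} {T : (ι → F) ≃ₗ[F] (ι → F)} (hT : T ∈ toE L) :
    ∃ g ∈ L, glE ι F g = T := hT

theorem toE_mono {L M : Subgroup (GL ι F)} (h : L ≤ M) : toE L ≤ toE M := Subgroup.map_mono h

/-- A linear map of determinant one is in the image of `SL`. -/
theorem exists_gl_of_det {T : (ι → F) →ₗ[F] (ι → F)} {d : F} (hd : d ≠ 0)
    (hT : LinearMap.det T = d) :
    ∃ g : GL ι F, (g : Matrix ι ι F) = LinearMap.toMatrix' T ∧ Matrix.det (g : Matrix ι ι F) = d ∧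
      ∀ z, (g : Matrix ι ι F) *ᵥ z = T z := by
  have h1 : Matrix.det (LinearMap.toMatrix' T) = d := by rw [LinearMap.det_toMatrix', hT]
  refine ⟨Matrix.GeneralLinearGroup.mkOfDetNeZero _ (by rw [h1]; exact hd), rfl, h1, fun z => ?_⟩
  change LinearMap.toMatrix' T *ᵥ z = T z
  rw [LinearMap.toMatrix'_mulVec]

theorem hasTv_of_tv {L : Subgroup (GL ι F)} {a : ι → F} {φ : ι → F}
    (h : Tv (toE L) a (Fintype.linearCombination F φ)) : H873.HasTv L a φ := by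
  obtain ⟨h0, T, hT, hTz⟩ := h
  obtain ⟨g, hg, rfl⟩ := exists_of_mem_toE hT
  have h1 : ∀ z : ι → F, Fintype.linearCombination F φ z = φ ⬝ᵥ z := by
    intro z
    rw [Fintype.linearCombination_apply, dotProduct]
    exact Finset.sum_congr rfl fun i _ => by rw [smul_eq_mul, mul_comm]
  refine ⟨by rw [← h1]; exact h0, g, hg, ?_⟩
  apply Matrix.mulVec_injective
  funext z
  rw [H873.one_add_mulVec, ← h1, ← hTz, glE_apply]

/-- All the transvections: contains `SL`. -/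
theorem specialLinear_le_of_tv [Nontrivial ι] {L : Subgroup (GL ι F)}
    (h : ∀ (a : ι → F) (φ : (ι → F) →ₗ[F] F), φ a = 0 → Tv (toE L) a φ) :
    specialLinear ι F ≤ L := by
  refine H873.specialLinear_le_of_hasTv fun i j hij c => hasTv_of_tv (h _ _ ?_)
  rw [Fintype.linearCombination_apply]
  apply Finset.sum_eq_zero
  intro k _
  by_cases hk : k = j
  · subst hk
    simp [Ne.symm hij]
  · simp [hk]

/-- Transvections in `SL`. -/
theorem tv_specialLinear (a : ι → F) (φ : (ι → F) →ₗ[F] F) (h : φ a = 0) :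
    Tv (toE (specialLinear ι F)) a φ := by
  refine ⟨h, ?_⟩
  have hdet : LinearMap.det (LinearMap.transvection φ a) = 1 := by
    rw [LinearMap.transvection.det, h, add_zero]
  obtain ⟨g, -, hg, hgz⟩ := exists_gl_of_det one_ne_zero hdet
  exact ⟨glE ι F g, mem_toE ((H873.mem_specialLinear_iff g).2 hg), fun z => by
    rw [glE_apply, hgz]; rfl⟩

end Cfsg.Agent.H923
end
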