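import Mathlib
import Cfsg.Agent.H923.Star
import Cfsg.Agent.H923.Ext
set_option linter.all false

-- part: H923/Green
section
/-!
A trace-map lemma for overgroups (a special case of Green correspondence, elementary).

`M ≤ G`, `E ≤ M` a `p`-subgroup such that no nontrivial element of `E` is in a conjugate `g M g⁻¹`,
`g ∉ M`. `X` an elementary abelian `p`-group on which `G` acts and `∑_{y ∈ E} y x = 0` for all `x`.
If `π` is an `M`-equivariant projection of `X` and `π X` is generated by the `M`-translates of its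
`E`-fixed points, then `π X` is `G`-invariant.
-/

set_option autoImplicit false

namespace Cfsg.Agent.H923

open scoped Classical in
/-- **The trace lemma.** -/
theorem green {G X : Type*} [Group G] [Finite G] [AddCommGroup X] [Finite X] {p : ℕ}
    [Fact p.Prime] (ρ : G →* AddMonoid.End X) (M E : Subgroup G) [Fintype E]
    (hE : IsPGroup p E) (hp : ∀ x : X, p • x = 0)
    (h1 : ∀ g : G, g ∉ M → ∀ y ∈ E, g⁻¹ * y * g ∈ M → y = 1) (hEM : E ≤ M)
    (h0 : ∀ x : X, ∑ y : E, ρ (y : G) x = 0)
    (π : X →+ X) (hπ : ∀ x, π (π x) = π x) (hπM : ∀ m ∈ M, ∀ x, π (ρ m x) = ρ m (π x))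
    (h2 : ∀ x, π x ∈ AddSubgroup.closure
      {z | ∃ m ∈ M, ∃ x, π x = x ∧ (∀ y ∈ E, ρ y x = x) ∧ z = ρ m x})
    (g : G) (x : X) : π (ρ g (π x)) = ρ g (π x) := by
  have := Fintype.ofFinite (G ⧸ M)
  have hmul : ∀ (a b : G) (x : X), ρ (a * b) x = ρ a (ρ b x) := by
    intro a b x
    rw [map_mul]
    rfl
  have hone : ∀ x : X, ρ 1 x = x := by
    intro x
    rw [map_one]
    rfl
  have hinv : ∀ (a : G) (x : X), ρ a (ρ a⁻¹ x) = x := by
    intro a x
    rw [← hmul, mul_inv_cancel, hone]
  have hinv' : ∀ (a : G) (x : X), ρ a⁻¹ (ρ a x) = x := by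
    intro a x
    rw [← hmul, inv_mul_cancel, hone]
  -- the summand
  let φ : X → G ⧸ M → X := fun x => Quotient.lift (fun a : G => ρ a (π (ρ a⁻¹ x))) (by
    intro a b hab
    have h : a⁻¹ * b ∈ M := QuotientGroup.leftRel_apply.1 hab
    change ρ a (π (ρ a⁻¹ x)) = ρ b (π (ρ b⁻¹ x))
    have e1 : b = a * (a⁻¹ * b) := by group
    have e2 : b⁻¹ = (a⁻¹ * b)⁻¹ * a⁻¹ := by group
    rw [e2, hmul, hπM _ (M.inv_mem h), ← hmul]
    congr 1
    rw [mul_inv_rev, inv_inv, ← mul_assoc, mul_inv_cancel, one_mul])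
  have hφ : ∀ (x : X) (a : G), φ x (a : G ⧸ M) = ρ a (π (ρ a⁻¹ x)) := fun _ _ => rfl
  have hφs : ∀ (h : G) (x : X) (c : G ⧸ M), φ (ρ h x) (h • c) = ρ h (φ x c) := by
    intro h x c
    obtain ⟨a, rfl⟩ := QuotientGroup.mk_surjective c
    have e1 : h • ((a : G) : G ⧸ M) = ((h * a : G) : G ⧸ M) := rfl
    rw [e1, hφ, hφ, ← hmul, mul_inv_rev, inv_mul_cancel_right, hmul h a]
  have hφadd : ∀ (x x' : X) (c : G ⧸ M), φ (x + x') c = φ x c + φ x' c := by
    intro x x' c
    obtain ⟨a, rfl⟩ := QuotientGroup.mk_surjective c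
    simp only [hφ, map_add]
  -- the trace
  let T : X →+ X :=
    { toFun := fun x => ∑ c : G ⧸ M, φ x c
      map_zero' := by
        apply Finset.sum_eq_zero
        intro c _
        obtain ⟨a, rfl⟩ := QuotientGroup.mk_surjective c
        simp only [hφ, map_zero]
      map_add' := fun x x' => by
        rw [← Finset.sum_add_distrib]
        exact Finset.sum_congr rfl fun c _ => hφadd x x' c }
  have hT : ∀ x, T x = ∑ c : G ⧸ M, φ x c := fun _ => rfl
  have hTg : ∀ (h : G) (x : X), T (ρ h x) = ρ h (T x) := by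
    intro h x
    rw [hT, hT, map_sum, ← Equiv.sum_comp (MulAction.toPerm h)]
    exact Finset.sum_congr rfl fun c _ => hφs h x c
  -- on `E`-fixed vectors the trace is `π`
  have hTfix : ∀ x : X, (∀ y ∈ E, ρ y x = x) → T x = π x := by
    intro x hx
    have hinvφ : ∀ y ∈ E, ∀ c : G ⧸ M, φ x (y • c) = ρ y (φ x c) := by
      intro y hy c
      rw [← hφs y x c, hx y hy]
    rw [hT, ← Finset.add_sum_erase Finset.univ _ (Finset.mem_univ ((1 : G) : G ⧸ M))]
    have e1 : φ x ((1 : G) : G ⧸ M) = π x := by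
      rw [hφ, inv_one, hone, hone]
    rw [e1]
    have e2 : ∑ c ∈ Finset.univ.erase ((1 : G) : G ⧸ M), φ x c = 0 := by
      -- sum over the orbits of `E`
      rw [← Finset.sum_fiberwise_of_maps_to (s := Finset.univ.erase ((1 : G) : G ⧸ M))
        (t := Finset.univ) (g := fun c => (Quotient.mk (MulAction.orbitRel E (G ⧸ M)) c))
        (fun _ _ => Finset.mem_univ _)]
      apply Finset.sum_eq_zero
      intro o _
      obtain ⟨c₀, rfl⟩ := Quotient.exists_rep o
      by_cases hc₀ : c₀ = ((1 : G) : G ⧸ M)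
      · -- the orbit of the base point is the base point
        apply Finset.sum_eq_zero
        intro c hc
        exfalso
        rw [Finset.mem_filter, Finset.mem_erase] at hc
        obtain ⟨⟨hc1, -⟩, hc2⟩ := hc
        have h3 : c ∈ MulAction.orbit E c₀ := Quotient.exact hc2
        obtain ⟨y, rfl⟩ := h3
        apply hc1
        subst hc₀
        change ((((y : G) * 1 : G)) : G ⧸ M) = _
        rw [QuotientGroup.eq, mul_one, mul_one]
        exact M.inv_mem (hEM y.2)
      · have hset : (Finset.univ.erase ((1 : G) : G ⧸ M)).filter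
            (fun c => (Quotient.mk (MulAction.orbitRel E (G ⧸ M)) c) =
              Quotient.mk (MulAction.orbitRel E (G ⧸ M)) c₀) =
            Finset.univ.image (fun y : E => (y : G) • c₀) := by
          ext c
          rw [Finset.mem_filter, Finset.mem_erase, Finset.mem_image]
          constructor
          · rintro ⟨-, hc2⟩
            have h3 : c ∈ MulAction.orbit E c₀ := Quotient.exact hc2
            obtain ⟨y, rfl⟩ := h3
            exact ⟨y, Finset.mem_univ _, rfl⟩
          · rintro ⟨y, -, rfl⟩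
            refine ⟨⟨?_, Finset.mem_univ _⟩, Quotient.sound ⟨y, rfl⟩⟩
            intro h3
            apply hc₀
            have h4 : c₀ = ((y : G)⁻¹) • ((1 : G) : G ⧸ M) := by
              rw [← h3, inv_smul_smul]
            rw [h4]
            change ((((y : G)⁻¹ * 1 : G)) : G ⧸ M) = _
            rw [QuotientGroup.eq, mul_one, mul_one, inv_inv]
            exact hEM y.2
        rw [hset, Finset.sum_image]
        · have : ∀ y : E, φ x ((y : G) • c₀) = ρ (y : G) (φ x c₀) := fun y => hinvφ y y.2 c₀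
          rw [Finset.sum_congr rfl fun y _ => this y]
          exact h0 _
        · intro y _ y' _ hyy
          obtain ⟨a, rfl⟩ := QuotientGroup.mk_surjective c₀
          have h3 : ((((y : G) * a : G)) : G ⧸ M) = (((y' : G) * a : G) : G ⧸ M) := hyy
          rw [QuotientGroup.eq] at h3
          have ha : a ∉ M := by
            intro ha
            apply hc₀
            rw [QuotientGroup.eq, mul_one]
            exact M.inv_mem ha
          have h4 : a⁻¹ * ((y : G)⁻¹ * (y' : G)) * a ∈ M := by
            have : a⁻¹ * ((y : G)⁻¹ * (y' : G)) * a = ((y : G) * a)⁻¹ * ((y' : G) * a) := by group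
            rwa [this]
          have h5 := h1 a ha _ (E.mul_mem (E.inv_mem y.2) y'.2) h4
          apply Subtype.ext
          rw [inv_mul_eq_one] at h5
          exact h5
    rw [e2, add_zero]
  -- the trace is the identity on the `G`-submodule generated by `π X`
  have hTπ : ∀ x, T (π x) = π x := by
    intro x
    have key : AddSubgroup.closure
        {z | ∃ m ∈ M, ∃ x, π x = x ∧ (∀ y ∈ E, ρ y x = x) ∧ z = ρ m x} ≤
        (T - AddMonoidHom.id X).ker := by
      rw [AddSubgroup.closure_le]
      rintro _ ⟨m, hm, x, hx, hxE, rfl⟩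
      rw [SetLike.mem_coe, AddMonoidHom.mem_ker, AddMonoidHom.sub_apply, AddMonoidHom.id_apply,
        hTg, hTfix x hxE, hx, sub_self]
    have h3 := key (h2 x)
    rwa [AddMonoidHom.mem_ker, AddMonoidHom.sub_apply, AddMonoidHom.id_apply, sub_eq_zero] at h3
  let Y : AddSubgroup X := AddSubgroup.closure {z | ∃ (g : G) (x : X), z = ρ g (π x)}
  have hYT : ∀ y ∈ Y, T y = y := by
    have key : Y ≤ (T - AddMonoidHom.id X).ker := by
      rw [AddSubgroup.closure_le]
      rintro _ ⟨g, x, rfl⟩
      rw [SetLike.mem_coe, AddMonoidHom.mem_ker, AddMonoidHom.sub_apply, AddMonoidHom.id_apply,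
        hTg, hTπ, sub_self]
    intro y hy
    have h3 := key hy
    rwa [AddMonoidHom.mem_ker, AddMonoidHom.sub_apply, AddMonoidHom.id_apply, sub_eq_zero] at h3
  have hYρ : ∀ (g : G), ∀ y ∈ Y, ρ g y ∈ Y := by
    intro g y hy
    have key : Y ≤ Y.comap (ρ g : X →+ X) := by
      rw [AddSubgroup.closure_le]
      rintro _ ⟨g', x, rfl⟩
      change ρ g (ρ g' (π x)) ∈ Y
      rw [← hmul]
      exact AddSubgroup.subset_closure ⟨_, _, rfl⟩
    exact key hy
  -- the part killed by `π`
  have hker : ∀ y ∈ Y, π y = 0 → y = 0 := by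
    by_contra hcon
    push Not at hcon
    obtain ⟨y₀, hy₀, hπy₀, hne⟩ := hcon
    let Z : AddSubgroup X := Y ⊓ π.ker
    have hZE : ∀ y ∈ E, ∀ z ∈ Z, ρ y z ∈ Z := by
      rintro y hy z ⟨hz1, hz2⟩
      refine ⟨hYρ y z hz1, ?_⟩
      have hz2' : π z = 0 := hz2
      change π (ρ y z) = 0
      rw [hπM y (hEM hy), hz2', map_zero]
    letI : MulAction E Z :=
      { smul := fun y z => ⟨ρ (y : G) (z : X), hZE y y.2 z z.2⟩
        one_smul := fun z => Subtype.ext (hone z)
        mul_smul := fun a b z => Subtype.ext (hmul a b z) }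
    have hcard : p ∣ Nat.card Z := by
      have hZne : (⟨y₀, hy₀, hπy₀⟩ : Z) ≠ 0 := fun h => hne (congrArg Subtype.val h)
      have h3 : addOrderOf (⟨y₀, hy₀, hπy₀⟩ : Z) = p := by
        apply addOrderOf_eq_prime _ hZne
        apply Subtype.ext
        exact hp y₀
      rw [← h3]
      exact addOrderOf_dvd_natCard _
    obtain ⟨z, hz, hz0⟩ := hE.exists_fixed_point_of_prime_dvd_card_of_fixed_point Z hcard
      (a := 0) (by
        intro y
        apply Subtype.ext
        exact map_zero (ρ (y : G)))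
    have hzfix : ∀ y ∈ E, ρ y (z : X) = z := fun y hy => congrArg Subtype.val (hz ⟨y, hy⟩)
    have h3 := hTfix z hzfix
    rw [hYT z z.2.1] at h3
    have h4 : π (z : X) = 0 := z.2.2
    rw [h4] at h3
    exact hz0 (Subtype.ext h3.symm)
  have hgx : ρ g (π x) ∈ Y := AddSubgroup.subset_closure ⟨g, x, rfl⟩
  have hπY : ∀ x, π x ∈ Y := fun x => AddSubgroup.subset_closure ⟨1, x, (hone _).symm⟩
  have h3 := hker (ρ g (π x) - π (ρ g (π x))) (Y.sub_mem hgx (hπY _)) (by rw [map_sub, hπ, sub_self])
  exact (sub_eq_zero.1 h3).symm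

/-- The trace lemma, with plain functions. -/
theorem green_fun {G X : Type*} [Group G] [Finite G] [AddCommGroup X] [Finite X] {p : ℕ}
    [Fact p.Prime] (ρ : G → X → X) (hadd : ∀ g x y, ρ g (x + y) = ρ g x + ρ g y)
    (hone : ∀ x, ρ 1 x = x) (hmul : ∀ g h x, ρ (g * h) x = ρ g (ρ h x))
    (M E : Subgroup G) [Fintype E]
    (hE : IsPGroup p E) (hp : ∀ x : X, p • x = 0)
    (h1 : ∀ g : G, g ∉ M → ∀ y ∈ E, g⁻¹ * y * g ∈ M → y = 1) (hEM : E ≤ M)
    (h0 : ∀ x : X, ∑ y : E, ρ (y : G) x = 0)
    (π : X → X) (hπadd : ∀ x y, π (x + y) = π x + π y) (hπ : ∀ x, π (π x) = π x)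
    (hπM : ∀ m ∈ M, ∀ x, π (ρ m x) = ρ m (π x))
    (h2 : ∀ S : AddSubgroup X, (∀ m ∈ M, ∀ x, π x = x → (∀ y ∈ E, ρ y x = x) → ρ m x ∈ S) →
      ∀ x, π x ∈ S)
    (g : G) (x : X) : π (ρ g (π x)) = ρ g (π x) := by
  let ρ' : G →* AddMonoid.End X :=
    { toFun := fun g => AddMonoidHom.mk' (ρ g) (hadd g)
      map_one' := by ext x; exact hone x
      map_mul' := fun g h => by ext x; exact hmul g h x }
  let π' : X →+ X := AddMonoidHom.mk' π hπadd
  refine green ρ' M E hE hp h1 hEM h0 π' hπ hπM ?_ g x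
  refine h2 _ ?_
  intro m hm x hx1 hx2
  exact AddSubgroup.subset_closure ⟨m, hm, x, hx1, hx2, rfl⟩

end Cfsg.Agent.H923
end

-- part: H923/ThinGen
section
/-!
Overgroups of `N_Ω(K)`, thin case: such an overgroup normalises `K`. The trace lemma is applied to
the module of bilinear forms on `V`, with the projection onto the `K`-balanced alternating forms.
-/

set_option autoImplicit false
set_option linter.unusedSectionVars false
set_option linter.style.haveILetI false

namespace Cfsg.Agent.H923.KF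

open QuadraticMap Module Cfsg.Agent.LieClassical.OrthCore Cfsg.Agent.LieClassical.OrthTrans
  Cfsg.Agent.LieClassical.OrthSimple Cfsg.Agent.ClassicalGeometry.OrthAutBasic
open scoped commutatorElement

variable {F K V : Type*} [Field F] [Field K] [Algebra F K] [AddCommGroup V] [Module F V]
  [Module K V] [IsScalarTower F K V] {q : QuadraticForm K V} {Q : QuadraticForm F V}

/-- The bilinear forms. -/
abbrev BF (F V : Type*) [Field F] [AddCommGroup V] [Module F V] := V →ₗ[F] V →ₗ[F] F

/-- The action on bilinear forms. -/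
def rhoB (F V : Type*) [Field F] [AddCommGroup V] [Module F V] :
    (V ≃ₗ[F] V) →* AddMonoid.End (BF F V) where
  toFun g :=
    { toFun := fun B => B.compl₁₂ (g⁻¹ : V ≃ₗ[F] V).toLinearMap (g⁻¹ : V ≃ₗ[F] V).toLinearMap
      map_zero' := by ext v w; rfl
      map_add' := fun B B' => by ext v w; rfl }
  map_one' := by ext B v w; rfl
  map_mul' g h := by
    ext B v w
    change B ((g * h)⁻¹ v) ((g * h)⁻¹ w) = B (h⁻¹ (g⁻¹ v)) (h⁻¹ (g⁻¹ w))
    rw [mul_inv_rev]
    rfl

theorem rhoB_apply (g : V ≃ₗ[F] V) (B : BF F V) (v w : V) :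
    rhoB F V g B v w = B (g⁻¹ v) (g⁻¹ w) := rfl

section Proj

variable [Fintype K]

open scoped Classical in
/-- Averaging over `K^×`. -/
noncomputable def av (B : BF F V) : BF F V :=
  -∑ c : Kˣ, B.compl₁₂ (Algebra.lsmul F F V (c : K)) (Algebra.lsmul F F V ((c⁻¹ : Kˣ) : K))

open scoped Classical in
theorem av_apply (B : BF F V) (v w : V) :
    av (K := K) B v w = -∑ c : Kˣ, B ((c : K) • v) (((c⁻¹ : Kˣ) : K) • w) := by
  simp only [av, LinearMap.neg_apply, LinearMap.sum_apply, LinearMap.compl₁₂_apply,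
    Algebra.lsmul_coe]

/-- The projection onto balanced alternating forms. -/
noncomputable def prB (K : Type*) [Field K] [Algebra F K] [Module K V] [IsScalarTower F K V]
    [Fintype K] : BF F V →+ BF F V where
  toFun B := (2 : F)⁻¹ • (av (K := K) B - (av (K := K) B).flip)
  map_zero' := by
    ext v w
    simp [av_apply]
  map_add' B B' := by
    ext v w
    simp only [LinearMap.smul_apply, LinearMap.sub_apply, LinearMap.flip_apply,
      LinearMap.add_apply, av_apply, Finset.sum_add_distrib, smul_eq_mul]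
    ring

theorem prB_apply (B : BF F V) (v w : V) :
    prB K B v w = (2 : F)⁻¹ * (av (K := K) B v w - av (K := K) B w v) := by
  simp only [prB, AddMonoidHom.coe_mk, ZeroHom.coe_mk, LinearMap.smul_apply, LinearMap.sub_apply,
    LinearMap.flip_apply, smul_eq_mul]

theorem av_balanced (B : BF F V) (d : K) (v w : V) :
    av (K := K) B (d • v) w = av (K := K) B v (d • w) := by
  classical
  rw [av_apply, av_apply]
  congr 1
  by_cases hd : d = 0
  · subst hd
    simp
  · refine Fintype.sum_equiv (Equiv.mulRight (Units.mk0 d hd)) _ _ fun c => ?_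
    rw [Equiv.coe_mulRight, mul_inv_rev]
    simp only [Units.val_mul, Units.val_mk0, Units.val_inv_eq_inv_val, smul_smul]
    congr 2
    field_simp

theorem av_of_balanced (B : BF F V) (hB : ∀ (d : K) (v w : V), B (d • v) w = B v (d • w)) :
    av (K := K) B = B := by
  classical
  ext v w
  have h1 : ∀ c : Kˣ, B ((c : K) • v) (((c⁻¹ : Kˣ) : K) • w) = B v w := by
    intro c
    rw [hB, smul_smul, ← Units.val_mul, mul_inv_cancel, Units.val_one, one_smul]
  rw [av_apply, Finset.sum_congr rfl fun c _ => h1 c, Finset.sum_const, Finset.card_univ]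
  have h2 : (Fintype.card K : F) = 0 := by
    apply (algebraMap F K).injective
    rw [map_natCast, map_zero, FiniteField.cast_card_eq_zero]
  have h3 : Fintype.card K = Fintype.card Kˣ + 1 := by
    rw [Fintype.card_units]
    have := Fintype.card_pos (α := K)
    omega
  rw [h3] at h2
  push_cast at h2
  have h4 : (Fintype.card Kˣ : F) = -1 := by linear_combination h2
  rw [nsmul_eq_mul, h4]
  ring

/-- Fixed points of the projection. -/
theorem prB_of (h2 : (2 : F) ≠ 0) {B : BF F V}
    (hB : ∀ (d : K) (v w : V), B (d • v) w = B v (d • w)) (hs : ∀ v w, B v w = -B w v) :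
    prB K B = B := by
  ext v w
  rw [prB_apply, av_of_balanced B hB, hs w v]
  field_simp
  ring

theorem prB_balanced (B : BF F V) (d : K) (v w : V) :
    prB K B (d • v) w = prB K B v (d • w) := by
  rw [prB_apply, prB_apply, av_balanced, ← av_balanced B d w v]

theorem prB_skew (B : BF F V) (v w : V) : prB K B v w = -prB K B w v := by
  rw [prB_apply, prB_apply]
  ring

theorem prB_prB (h2 : (2 : F) ≠ 0) (B : BF F V) : prB K (prB K B) = prB K B :=
  prB_of h2 (prB_balanced B) (prB_skew B)

theorem av_rho {g : V ≃ₗ[F] V} (hg : g ∈ NK F K V) (B : BF F V) :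
    av (K := K) (rhoB F V g B) = rhoB F V g (av (K := K) B) := by
  classical
  obtain ⟨τ, hτ⟩ := (NK F K V).inv_mem hg
  ext v w
  rw [av_apply, rhoB_apply, av_apply]
  congr 1
  refine Fintype.sum_equiv (Units.mapEquiv τ.toMulEquiv).toEquiv _ _ fun c => ?_
  rw [rhoB_apply, hτ, hτ]
  congr 2

theorem prB_rho {g : V ≃ₗ[F] V} (hg : g ∈ NK F K V) (B : BF F V) :
    prB K (rhoB F V g B) = rhoB F V g (prB K B) := by
  ext v w
  rw [prB_apply, av_rho hg, rhoB_apply, rhoB_apply, rhoB_apply, prB_apply]

end Proj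

section BB

/-- The form `x ∧ y`. -/
noncomputable def BB (q : QuadraticForm K V) (F : Type*) [Field F] [Algebra F K] [Module F V]
    [IsScalarTower F K V] (x y : V) : BF F V :=
  LinearMap.mk₂ F (fun v w => Algebra.trace F K (polar q x v * polar q y w -
      polar q y v * polar q x w))
    (fun v v' w => by
      rw [polar_add_right, polar_add_right, ← map_add]; congr 1; ring)
    (fun r v w => by
      rw [← algebraMap_smul K r v, polar_smul_right, polar_smul_right, smul_eq_mul, smul_eq_mul,
        ← map_smul, Algebra.smul_def]; congr 1; ring)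
    (fun v w w' => by
      rw [polar_add_right, polar_add_right, ← map_add]; congr 1; ring)
    (fun r v w => by
      rw [← algebraMap_smul K r w, polar_smul_right, polar_smul_right, smul_eq_mul, smul_eq_mul,
        ← map_smul, Algebra.smul_def]; congr 1; ring)

theorem BB_apply (x y v w : V) : BB q F x y v w =
    Algebra.trace F K (polar q x v * polar q y w - polar q y v * polar q x w) := rfl

theorem BB_add_left (x x' y : V) : BB q F (x + x') y = BB q F x y + BB q F x' y := by
  ext v w
  rw [LinearMap.add_apply, LinearMap.add_apply, BB_apply, BB_apply, BB_apply, polar_add_left,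
    polar_add_left, ← map_add]
  congr 1; ring

theorem BB_swap (x y : V) : BB q F y x = -BB q F x y := by
  ext v w
  rw [LinearMap.neg_apply, LinearMap.neg_apply, BB_apply, BB_apply, ← map_neg]
  congr 1; ring

theorem BB_add_right (x y y' : V) : BB q F x (y + y') = BB q F x y + BB q F x y' := by
  ext v w
  rw [LinearMap.add_apply, LinearMap.add_apply, BB_apply, BB_apply, BB_apply, polar_add_left,
    polar_add_left, ← map_add]
  congr 1; ring

theorem BB_smul (c : K) (x y : V) : BB q F x (c • y) = BB q F (c • x) y := by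
  ext v w
  rw [BB_apply, BB_apply, polar_smul_left, polar_smul_left, polar_smul_left, polar_smul_left]
  simp only [smul_eq_mul]
  congr 1; ring

theorem BB_self (x : V) (c : K) : BB q F (c • x) x = 0 := by
  ext v w
  rw [BB_apply, polar_smul_left, polar_smul_left, LinearMap.zero_apply, LinearMap.zero_apply]
  simp only [smul_eq_mul]
  rw [← map_zero (Algebra.trace F K)]
  congr 1; ring

theorem BB_self' (x : V) (c : K) : BB q F x (c • x) = 0 := by rw [BB_smul, BB_self]

theorem BB_neg_left (x y : V) : BB q F (-x) y = -BB q F x y := by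
  ext v w
  rw [LinearMap.neg_apply, LinearMap.neg_apply, BB_apply, BB_apply, polar_neg_left, polar_neg_left,
    ← map_neg]
  congr 1; ring

/-- Adding a multiple of the first vector. -/
theorem BB_sub_smul (x y : V) (c d : K) : BB q F (c • x) (y - d • x) = BB q F (c • x) y := by
  ext v w
  rw [BB_apply, BB_apply]
  congr 1
  simp only [polar_sub_left, polar_smul_left, smul_eq_mul]
  ring

theorem BB_res (g : V ≃ₗ[K] V) (hg : g ∈ O q) (x y : V) :
    rhoB F V (res F g) (BB q F x y) = BB q F (g x) (g y) := by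
  ext v w
  have e : ∀ a b : V, polar q a ((res F g)⁻¹ b) = polar q (g a) b := by
    intro a b
    rw [← polar_map hg a]
    congr 1
    exact (res F g).apply_symm_apply b
  rw [rhoB_apply, BB_apply, BB_apply, e, e, e, e]

theorem BB_balanced (x y : V) (d : K) (v w : V) :
    BB q F x y (d • v) w = BB q F x y v (d • w) := by
  rw [BB_apply, BB_apply, polar_smul_right, polar_smul_right, polar_smul_right, polar_smul_right]
  simp only [smul_eq_mul]
  congr 1; ring

theorem BB_skew (x y v w : V) : BB q F x y v w = -BB q F x y w v := by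
  rw [BB_apply, BB_apply, ← map_neg]
  congr 1; ring

end BB

variable {H : Subgroup (V ≃ₗ[F] V)}

/-- If `g` preserves the balanced alternating forms then it normalises `K`. -/
theorem mem_NK_of_preserves [Fintype K] (hq : Nondeg q) (h2 : (2 : F) ≠ 0) (hK : 2 ≤ finrank K V)
    {g : V ≃ₗ[F] V}
    (h : ∀ B : BF F V, prB K (rhoB F V g⁻¹ (prB K B)) = rhoB F V g⁻¹ (prB K B)) :
    g ∈ NK F K V := by
  apply mem_NK_of_forall
  intro c
  have hgg : ∀ v : V, g (g⁻¹ v) = v := fun v => g.apply_symm_apply v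
  have key : ∀ x y v w : V, BB q F x y (g (c • g⁻¹ v)) w = BB q F x y v (g (c • g⁻¹ w)) := by
    intro x y v w
    have h1 : prB K (BB q F x y) = BB q F x y := prB_of h2 (BB_balanced x y) (BB_skew x y)
    have h3 := h (BB q F x y)
    rw [h1] at h3
    have h4 := prB_balanced (K := K) (rhoB F V g⁻¹ (BB q F x y)) c (g⁻¹ v) (g⁻¹ w)
    rw [h3, rhoB_apply, rhoB_apply, inv_inv, hgg, hgg] at h4
    exact h4
  have hz : ∀ v : V, ∃ κ : K, g (c • g⁻¹ v) = κ • v := by
    intro v
    by_cases hv : v = 0
    · subst hv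
      exact ⟨0, by rw [map_zero, smul_zero, map_zero, smul_zero]⟩
    obtain ⟨y, hy⟩ := hq.exists_polar_eq hv 1
    rw [polar_comm] at hy
    refine ⟨polar q y (g (c • g⁻¹ v)), ?_⟩
    rw [← sub_eq_zero]
    apply hq
    intro x
    rw [polar_comm q _ x, polar_sub_right, polar_smul_right]
    apply trace_eq_zero (F := F)
    intro e
    have h1 := key (e • x) y v v
    rw [BB_skew _ _ v] at h1
    have h3 : BB q F (e • x) y (g (c • g⁻¹ v)) v = 0 := by
      have : (2 : F) * BB q F (e • x) y (g (c • g⁻¹ v)) v = 0 := by linear_combination h1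
      exact (mul_eq_zero.1 this).resolve_left h2
    rw [BB_apply, polar_smul_left, polar_smul_left, hy, smul_eq_mul, smul_eq_mul, mul_one] at h3
    rw [← h3]
    congr 1
    rw [smul_eq_mul]
    ring
  obtain ⟨κ, hκ⟩ := scalar_of_forall (K := K) hK (fun v => g (c • g⁻¹ v)) (fun x y => by
    simp only [map_add, smul_add]) hz
  refine ⟨κ, fun v => ?_⟩
  have h1 := hκ (g v)
  have e1 : g⁻¹ (g v) = v := g.symm_apply_apply v
  simp only [e1] at h1
  exact h1

/-- A subgroup containing all `u ∧ x`, `u` singular, `x ⊥ u`, contains all balanced alternating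
forms. -/
theorem prB_mem_of [Fintype K] [FiniteDimensional F V] (h2K : (2 : K) ≠ 0) (hT : IsTr q Q)
    (hQ : Nondeg Q) (hK : 3 ≤ finrank K V) {u u' : V} (hyp : Hyp q u u')
    {S : AddSubgroup (BF F V)}
    (hS1' : ∀ u₁ : V, q u₁ = 0 → ∀ x : V, polar q u₁ x = 0 → BB q F u₁ x ∈ S) :
    ∀ B : BF F V, prB K B ∈ S := by
  classical
  have hq : Nondeg q := hT.nondeg hQ
  have hS2 : ∀ e f : V, Hyp q e f → ∀ c : K, BB q F (c • e) f ∈ S := by
    intro e f hef
    obtain ⟨a, b, ha1, ha2, hb1, hb2, hab⟩ := exists_perp2 hq hK hef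
    obtain ⟨x, hx, hex, hfx⟩ : ∃ w, q w ≠ 0 ∧ polar q e w = 0 ∧ polar q f w = 0 := by
      rcases exists_nonsing hab with h | h | h
      · exact ⟨a, h, ha1, ha2⟩
      · exact ⟨b, h, hb1, hb2⟩
      · exact ⟨a + b, h, by rw [polar_add_right, ha1, hb1, add_zero],
          by rw [polar_add_right, ha2, hb2, add_zero]⟩
    have hxe : polar q x e = 0 := by rw [polar_comm]; exact hex
    have h3 : ∀ t : K, BB q F ((2 * q x * t ^ 2) • e) f ∈ S := by
      intro t
      have htx : polar q f (t • x) = 0 := by rw [polar_smul_right, hfx, smul_zero]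
      set u₁ := T q f (t • x) e with hu₁
      set x₁ := T q f (t • x) (t • x) with hx₁
      have hu₁q : q u₁ = 0 := by rw [hu₁, mem_O.1 (T_mem_O _ _)]; exact hef.left
      have hperp : polar q u₁ x₁ = 0 := by
        rw [hu₁, hx₁, polar_map (T_mem_O _ _), polar_smul_right, hex, smul_zero]
      have e1 : u₁ = e + t • x + (-(q x * t ^ 2)) • f := by
        rw [hu₁, T_apply hef.right htx, hef.pair', polar_smul_left, hxe, QuadraticMap.map_smul,
          smul_zero, zero_smul, one_smul, smul_eq_mul]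
        module
      have e2 : x₁ = t • x + (-(2 * (q x * t ^ 2))) • f := by
        rw [hx₁, T_apply_perp hef.right htx htx, polar_self', QuadraticMap.map_smul, smul_eq_mul]
        module
      have h4 := hS1' u₁ hu₁q x₁ hperp
      have h5 := hS1' e hef.left (t • x) (by rw [polar_smul_right, hex, smul_zero])
      have h6 := hS1' ((q x * t ^ 2) • f) (by rw [QuadraticMap.map_smul, hef.right, smul_zero])
        (t • x) (by rw [polar_smul_left, htx, smul_zero])
      have e3 : BB q F ((2 * q x * t ^ 2) • e) f =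
          BB q F e (t • x) + BB q F ((q x * t ^ 2) • f) (t • x) - BB q F u₁ x₁ := by
        ext v w
        simp only [LinearMap.add_apply, LinearMap.sub_apply, BB_apply]
        rw [e1, e2, ← map_add, ← map_sub]
        congr 1
        simp only [polar_add_left, polar_smul_left, smul_eq_mul]
        ring
      rw [e3]
      exact S.sub_mem (S.add_mem h5 h6) h4
    intro c
    obtain ⟨a', b', hab'⟩ := sq_sub_sq h2K (c * (2 * q x)⁻¹)
    have h4 : c • e = (2 * q x * a' ^ 2) • e + (-(2 * q x * b' ^ 2)) • e := by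
      rw [← add_smul]
      congr 1
      have : (2 * q x) ≠ 0 := mul_ne_zero h2K hx
      field_simp at hab'
      linear_combination hab'
    rw [h4, BB_add_left]
    refine S.add_mem (h3 a') ?_
    have h5 : BB q F ((-(2 * q x * b' ^ 2)) • e) f = -BB q F ((2 * q x * b' ^ 2) • e) f := by
      rw [neg_smul, BB_neg_left]
    rw [h5]
    exact S.neg_mem (h3 b')
  have hS3 : ∀ u₁ : V, q u₁ = 0 → ∀ v : V, BB q F u₁ v ∈ S := by
    intro u₁ hu₁ v
    by_cases hu₁0 : u₁ = 0
    · exact hS1' u₁ hu₁ v (by rw [hu₁0, polar_zero_left])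
    obtain ⟨f, hf⟩ := exists_hyp hq hu₁ hu₁0
    have e1 : v = (Cfsg.Agent.LieClassical.OrthTrans.proj q u₁ f v + polar q f v • u₁) +
        polar q u₁ v • f := by
      rw [Cfsg.Agent.LieClassical.OrthTrans.proj]; module
    rw [e1, BB_add_right, BB_add_right]
    refine S.add_mem (S.add_mem (hS1' u₁ hu₁ _ (polar_proj_left hf v)) ?_) ?_
    · rw [BB_self']
      exact S.zero_mem
    · rw [BB_smul]
      exact hS2 u₁ f hf _
  have hS4 : ∀ x v : V, BB q F x v ∈ S := by
    intro x v
    refine sing_induction hyp (P := fun x => BB q F x v ∈ S) ?_ (fun a ha => hS3 a ha v) x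
    intro a c ha hc
    rw [BB_add_left]
    exact S.add_mem ha hc
  -- the trace function
  have hG : ∃ κ : K, ∀ s t : K, ∑ c : Kˣ, Algebra.trace F K ((c : K) * s) *
      Algebra.trace F K (((c⁻¹ : Kˣ) : K) * t) = Algebra.trace F K (κ * (s * t)) := by
    let μ : K →ₗ[F] F := ∑ c : Kˣ, Algebra.trace F K ((c : K) * 1) •
      ((Algebra.trace F K).comp (LinearMap.mulLeft F ((c⁻¹ : Kˣ) : K)))
    obtain ⟨κ, hκ⟩ := exists_trace_rep μ
    refine ⟨κ, fun s t => ?_⟩
    rw [← hκ]
    simp only [μ, LinearMap.sum_apply, LinearMap.smul_apply, LinearMap.comp_apply,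
      LinearMap.mulLeft_apply, smul_eq_mul]
    by_cases hs : s = 0
    · subst hs
      simp
    · refine Fintype.sum_equiv (Equiv.mulRight (Units.mk0 s hs)) _ _ fun c => ?_
      rw [Equiv.coe_mulRight, mul_inv_rev]
      simp only [Units.val_mul, Units.val_mk0, Units.val_inv_eq_inv_val, mul_one]
      congr 2
      field_simp
  obtain ⟨κ, hκ⟩ := hG
  have hS5 : ∀ B : BF F V, prB K B ∈ S := by
    intro B
    let b := Module.finBasis F V
    -- functionals are given by vectors
    have hrep : ∀ φ : V →ₗ[F] F, ∃ x : V, ∀ v, φ v = polar Q x v := by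
      have hinj : Function.Injective (polarBilin Q : V →ₗ[F] Module.Dual F V) := by
        rw [injective_iff_map_eq_zero]
        intro x hx
        apply hQ
        intro y
        exact LinearMap.congr_fun hx y
      have hsurj := (LinearMap.injective_iff_surjective_of_finrank_eq_finrank
        (Subspace.dual_finrank_eq (K := F) (V := V)).symm).1 hinj
      intro φ
      obtain ⟨x, hx⟩ := hsurj φ
      exact ⟨x, fun v => by rw [← hx]; rfl⟩
    choose X hX using hrep
    have hB : B = ∑ i, (polarBilin Q (X (b.coord i))).smulRight (B (b i)) := by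
      ext v w
      rw [LinearMap.sum_apply, LinearMap.sum_apply]
      conv_lhs => rw [← b.sum_repr v, map_sum, LinearMap.sum_apply]
      refine Finset.sum_congr rfl fun i _ => ?_
      rw [map_smul, LinearMap.smul_apply, LinearMap.smulRight_apply, LinearMap.smul_apply,
        polarBilin_apply_apply, ← hX]
      rfl
    rw [hB, map_sum]
    refine S.sum_mem fun i _ => ?_
    have h3 : prB K ((polarBilin Q (X (b.coord i))).smulRight (B (b i))) =
        BB q F ((-(2 : K)⁻¹ * κ) • X (b.coord i)) (X (B (b i))) := by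
      ext v w
      rw [prB_apply, av_apply, av_apply, BB_apply]
      have e1 : ∀ (v w : V), ∑ c : Kˣ, ((polarBilin Q (X (b.coord i))).smulRight (B (b i)))
          ((c : K) • v) (((c⁻¹ : Kˣ) : K) • w) =
          Algebra.trace F K (κ * (polar q (X (b.coord i)) v * polar q (X (B (b i))) w)) := by
        intro v w
        rw [← hκ]
        refine Finset.sum_congr rfl fun c _ => ?_
        rw [LinearMap.smulRight_apply, LinearMap.smul_apply, polarBilin_apply_apply, hX (B (b i)),
          hT.polar, hT.polar, polar_smul_right, polar_smul_right, smul_eq_mul, smul_eq_mul,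
          smul_eq_mul]
      rw [e1, e1, polar_smul_left, polar_smul_left]
      have e2 : (2 : F)⁻¹ * (-Algebra.trace F K (κ * (polar q (X (b.coord i)) v *
          polar q (X (B (b i))) w)) - -Algebra.trace F K (κ * (polar q (X (b.coord i)) w *
          polar q (X (B (b i))) v))) = Algebra.trace F K ((algebraMap F K (2 : F)⁻¹) *
          (-(κ * (polar q (X (b.coord i)) v * polar q (X (B (b i))) w)) - -(κ *
          (polar q (X (b.coord i)) w * polar q (X (B (b i))) v)))) := by
        rw [← Algebra.smul_def, map_smul, map_sub, map_neg, map_neg, smul_eq_mul]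
      rw [e2]
      congr 1
      rw [map_inv₀, map_ofNat]
      simp only [smul_eq_mul]
      ring
    rw [h3]
    exact hS4 _ _
  exact hS5

/-- The subgroup of `K`-transvections on a vector `u`, as a homomorphism to `H`. -/
noncomputable def Over.eps (h : Over q Q H) {p : ℕ} [Fintype K] [FiniteDimensional F V]
    [Fact p.Prime] [CharP F p] (hp : p ≠ 2) {u : V} (hu : q u = 0)
    {A : Type*} [AddCommGroup A] (θ : A →+ V) (hθ : ∀ a, polar q u (θ a) = 0) :
    Multiplicative A →* ↥H :=
  { toFun := fun a => ⟨res F (T q u (θ a.toAdd)), h.T_mem hp u _⟩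
    map_one' := by
      apply Subtype.ext
      change res F (T q u (θ 0)) = 1
      rw [map_zero, T_zero_right, map_one]
    map_mul' := fun a b => by
      apply Subtype.ext
      change res F (T q u (θ (a.toAdd + b.toAdd))) =
        res F (T q u (θ a.toAdd)) * res F (T q u (θ b.toAdd))
      rw [← map_mul, T_mul hu (hθ _) (hθ _), map_add] }

theorem Over.eps_coe (h : Over q Q H) {p : ℕ} [Fintype K] [FiniteDimensional F V]
    [Fact p.Prime] [CharP F p] (hp : p ≠ 2) {u : V} (hu : q u = 0)
    {A : Type*} [AddCommGroup A] (θ : A →+ V) (hθ : ∀ a, polar q u (θ a) = 0)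
    (a : Multiplicative A) : ((h.eps hp hu θ hθ a : ↥H) : V ≃ₗ[F] V) =
      res F (T q u (θ a.toAdd)) := rfl

theorem Over.eps_injective (h : Over q Q H) {p : ℕ} [Fintype K] [FiniteDimensional F V]
    [Fact p.Prime] [CharP F p] (hp : p ≠ 2) {u : V} (hu : q u = 0) (hu0 : u ≠ 0)
    {A : Type*} [AddCommGroup A] (θ : A →+ V) (hθ : ∀ a, polar q u (θ a) = 0)
    (hθq : ∀ a, a ≠ 0 → q (θ a) ≠ 0) : Function.Injective (h.eps hp hu θ hθ) := by
  have hcK : CharP K p := charP_of_injective_algebraMap (algebraMap F K).injective p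
  obtain ⟨u', hyp⟩ := exists_hyp h.nondeg hu hu0
  rw [injective_iff_map_eq_one]
  intro a ha
  by_contra hne
  have h1 : q (θ a.toAdd) ≠ 0 := hθq _ hne
  have h3 := T_sub_sq hu (hθ a.toAdd) u'
  have h5 : T q u (θ a.toAdd) = 1 := by
    have h6 := h.eps_coe hp hu θ hθ a
    rw [ha] at h6
    ext v
    exact (DFunLike.congr_fun h6 v).symm
  rw [h5] at h3
  change (u' - u') - (u' - u') = _ at h3
  rw [sub_self, hyp.pair, mul_one] at h3
  have h4 := (smul_eq_zero.1 h3.symm).resolve_right hu0
  have h2K : (2 : K) ≠ 0 := CharP.cast_ne_zero_of_ne_of_prime K Nat.prime_two hp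
  exact neg_ne_zero.2 (mul_ne_zero h2K h1) h4

/-- The set generating the invariant forms. -/
theorem Over.gen (h : Over q Q H) {p : ℕ} [Fintype K] [FiniteDimensional F V]
    [Fact p.Prime] [CharP F p] (hp : p ≠ 2) (hK : 3 ≤ finrank K V)
    {u : V} (hu : q u = 0) (hu0 : u ≠ 0)
    {A : Type*} [AddCommGroup A] (θ : A →+ V) (hθ : ∀ a, polar q u (θ a) = 0) (B : BF F V)
    (S : AddSubgroup (BF F V))
    (hS : ∀ m : ↥H, (m : V ≃ₗ[F] V) ∈ NK F K V → ∀ x : BF F V, prB K x = x →
      (∀ a, rhoB F V (h.eps hp hu θ hθ a) x = x) → rhoB F V m x ∈ S) :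
    prB K B ∈ S := by
  have hT := h.tr
  have hq := h.nondeg
  have hcK : CharP K p := charP_of_injective_algebraMap (algebraMap F K).injective p
  have h2K : (2 : K) ≠ 0 := CharP.cast_ne_zero_of_ne_of_prime K Nat.prime_two hp
  have h2 : (2 : F) ≠ 0 := CharP.cast_ne_zero_of_ne_of_prime F Nat.prime_two hp
  obtain ⟨u', hyp⟩ := exists_hyp hq hu hu0
  refine prB_mem_of h2K hT h.good.nondeg hK hyp ?_ B
  intro u₁ hu₁ x hx
  by_cases hu₁0 : u₁ = 0
  · rw [hu₁0]
    have : BB q F (0 : V) x = 0 := by
      have := BB_self (q := q) (F := F) x 0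
      rwa [zero_smul] at this
    rw [this]
    exact S.zero_mem
  have hfix : ∀ (c : K) (x : V), polar q u x = 0 → ∀ a,
      rhoB F V (h.eps hp hu θ hθ a) (BB q F (c • u) x) = BB q F (c • u) x := by
    intro c x hx a
    rw [h.eps_coe, BB_res _ (T_mem_O _ _), map_smul, T_apply_self hu (hθ _),
      T_apply_perp hu (hθ _) hx, BB_sub_smul]
  obtain ⟨z, w, c, hc, hmove⟩ := exists_T_move hq hK hu hu₁ hu0 hu₁0
  have h7 : ((⟨res F (T q z w), h.T_mem hp z w⟩ : ↥H)⁻¹ : V ≃ₗ[F] V) ∈ NK F K V :=
    (NK F K V).inv_mem (res_mem_NK _)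
  have h8 := hS (⟨res F (T q z w), h.T_mem hp z w⟩ : ↥H)⁻¹ h7 (BB q F (c • u) (T q z w x))
    (prB_of h2 (BB_balanced _ _) (BB_skew _ _)) (hfix c _ (by
      have h3 := polar_map (T_mem_O z w) u₁ x (Q := q)
      rw [hmove, hx, polar_smul_left, smul_eq_mul] at h3
      exact (mul_eq_zero.1 h3).resolve_left hc))
  have h4 : rhoB F V (res F (T q z w)) (BB q F u₁ x) = BB q F (c • u) (T q z w x) := by
    rw [BB_res _ (T_mem_O _ _), hmove]
  rw [← h4] at h8
  have h5 : (((⟨res F (T q z w), h.T_mem hp z w⟩ : ↥H)⁻¹ : ↥H) : V ≃ₗ[F] V) =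
      (res F (T q z w))⁻¹ := rfl
  rw [h5] at h8
  have h6 : rhoB F V (res F (T q z w))⁻¹ * rhoB F V (res F (T q z w)) = 1 := by
    rw [← map_mul, inv_mul_cancel, map_one]
  have h9 : rhoB F V (res F (T q z w))⁻¹ (rhoB F V (res F (T q z w)) (BB q F u₁ x)) =
      BB q F u₁ x := DFunLike.congr_fun h6 (BB q F u₁ x)
  rwa [h9] at h8

end Cfsg.Agent.H923.KF
end

-- part: H923/ThinEnd
section
/-!
Overgroups of `N_Ω(K)`, thin case, conclusion.
-/

set_option autoImplicit false
set_option linter.unusedSectionVars false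
set_option linter.style.haveILetI false

namespace Cfsg.Agent.H923.KF

open QuadraticMap Module Cfsg.Agent.LieClassical.OrthCore Cfsg.Agent.LieClassical.OrthTrans
  Cfsg.Agent.LieClassical.OrthSimple Cfsg.Agent.ClassicalGeometry.OrthAutBasic
open scoped commutatorElement

variable {F K V : Type*} [Field F] [Field K] [Algebra F K] [AddCommGroup V] [Module F V]
  [Module K V] [IsScalarTower F K V] {q : QuadraticForm K V} {Q : QuadraticForm F V}

variable {H : Subgroup (V ≃ₗ[F] V)}

theorem rhoB_add (g : V ≃ₗ[F] V) (B B' : BF F V) :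
    rhoB F V g (B + B') = rhoB F V g B + rhoB F V g B' := by
  ext v w
  rfl

theorem prB_add [Fintype K] (B B' : BF F V) : prB K (B + B') = prB K B + prB K B' := by
  ext v w
  rw [LinearMap.add_apply, LinearMap.add_apply, prB_apply, prB_apply, prB_apply, av_apply, av_apply,
    av_apply, av_apply, av_apply, av_apply]
  simp only [LinearMap.add_apply, Finset.sum_add_distrib]
  ring

/-- The trace lemma for bilinear forms. -/
theorem green_BF {G F V : Type*} [Field F] [AddCommGroup V] [Module F V] [Group G] [Finite G]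
    [Finite (BF F V)] {p : ℕ} [Fact p.Prime] (ρ : G → BF F V → BF F V)
    (hadd : ∀ g x y, ρ g (x + y) = ρ g x + ρ g y)
    (hone : ∀ x, ρ 1 x = x) (hmul : ∀ g h x, ρ (g * h) x = ρ g (ρ h x))
    (M E : Subgroup G) [Fintype E]
    (hE : IsPGroup p E) (hp : ∀ x : BF F V, p • x = 0)
    (h1 : ∀ g : G, g ∉ M → ∀ y ∈ E, g⁻¹ * y * g ∈ M → y = 1) (hEM : E ≤ M)
    (h0 : ∀ x : BF F V, ∑ y : E, ρ (y : G) x = 0)
    (π : BF F V → BF F V) (hπadd : ∀ x y, π (x + y) = π x + π y) (hπ : ∀ x, π (π x) = π x)
    (hπM : ∀ m ∈ M, ∀ x, π (ρ m x) = ρ m (π x))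
    (h2 : ∀ S : AddSubgroup (BF F V),
      (∀ m ∈ M, ∀ x, π x = x → (∀ y ∈ E, ρ y x = x) → ρ m x ∈ S) → ∀ x, π x ∈ S)
    (g : G) (x : BF F V) : π (ρ g (π x)) = ρ g (π x) :=
  green_fun ρ hadd hone hmul M E hE hp h1 hEM h0 π hπadd hπ hπM h2 g x

/-- **Thin overgroups normalise `K`.** -/
theorem Over.le_NK_of_thin [Fintype K] [FiniteDimensional F V] (h : Over q Q H) {p : ℕ}
    [Fact p.Prime] [CharP F p] (hp : p ≠ 2)
    (hr : (finrank F K).Prime) (hK : 3 ≤ finrank K V)
    (hex : ¬ (p = 3 ∧ finrank F K = 3 ∧ finrank K V = 3))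
    {u : V} (hu : q u = 0) (hu0 : u ≠ 0) (hthin : Thin q H u)
    {A : Type*} [AddCommGroup A] [Fintype A] (θ : A →+ V) (hθ : ∀ a, polar q u (θ a) = 0)
    (hθq : ∀ a, a ≠ 0 → q (θ a) ≠ 0)
    (h0 : ∀ (B : BF F V) (v w : V), ∑ a : A, B (T q u (θ a) v) (T q u (θ a) w) = 0) :
    H ≤ NK F K V := by
  classical
  have hfF : Finite F := finiteF F K
  have hq := h.nondeg
  have h2 : (2 : F) ≠ 0 := CharP.cast_ne_zero_of_ne_of_prime F Nat.prime_two hp
  have hcK : CharP K p := charP_of_injective_algebraMap (algebraMap F K).injective p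
  have hfX : Finite (BF F V) := Module.finite_of_finite F
  have hfV : Finite V := Module.finite_of_finite F
  have hfE : Finite (V ≃ₗ[F] V) := Finite.of_injective (fun g => (g : V → V)) (by
    intro a b hab
    ext v
    exact congrFun hab v)
  have hpX : ∀ B : BF F V, p • B = 0 := by
    intro B
    rw [← Nat.cast_smul_eq_nsmul F, CharP.cast_eq_zero, zero_smul]
  have hpA : ∀ a : A, p • a = 0 := by
    intro a
    by_contra hne
    apply hθq _ hne
    rw [map_nsmul, ← Nat.cast_smul_eq_nsmul K, CharP.cast_eq_zero, zero_smul,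
      QuadraticMap.map_zero]
  have hE : IsPGroup p (h.eps hp hu θ hθ).range := by
    rintro ⟨_, a, rfl⟩
    refine ⟨1, ?_⟩
    apply Subtype.ext
    change (h.eps hp hu θ hθ a) ^ p ^ 1 = 1
    rw [pow_one, ← map_pow]
    have : a ^ p = 1 := by
      change Multiplicative.ofAdd (p • a.toAdd) = 1
      rw [hpA]
      rfl
    rw [this, map_one]
  have hEM : (h.eps hp hu θ hθ).range ≤ (NK F K V).subgroupOf H := by
    rintro _ ⟨a, rfl⟩
    exact res_mem_NK _
  have h1 : ∀ g : ↥H, g ∉ (NK F K V).subgroupOf H → ∀ y ∈ (h.eps hp hu θ hθ).range,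
      g⁻¹ * y * g ∈ (NK F K V).subgroupOf H → y = 1 := by
    rintro g hg _ ⟨a, rfl⟩ hy
    by_contra hne
    apply hg
    have ha : a.toAdd ≠ 0 := by
      intro h0
      apply hne
      have : a = 1 := h0
      rw [this, map_one]
    exact h.star hp hr hK hex hu hu0 hthin (hθ a.toAdd) (hθq _ ha) g.2 hy
  have h0' : ∀ B : BF F V, ∑ y : (h.eps hp hu θ hθ).range,
      rhoB F V ((y : ↥H) : V ≃ₗ[F] V) B = 0 := by
    intro B
    have e1 : ∑ y : (h.eps hp hu θ hθ).range, rhoB F V ((y : ↥H) : V ≃ₗ[F] V) B =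
        ∑ a : Multiplicative A, rhoB F V ((h.eps hp hu θ hθ a : ↥H) : V ≃ₗ[F] V) B :=
      (Fintype.sum_equiv (MonoidHom.ofInjective (h.eps_injective hp hu hu0 θ hθ hθq)).toEquiv
        _ _ fun a => rfl).symm
    rw [e1]
    ext v w
    rw [LinearMap.sum_apply, LinearMap.sum_apply, LinearMap.zero_apply, LinearMap.zero_apply]
    have e2 : ∀ a : Multiplicative A, rhoB F V ((h.eps hp hu θ hθ a : ↥H) : V ≃ₗ[F] V) B v w =
        B (T q u (θ (-a.toAdd)) v) (T q u (θ (-a.toAdd)) w) := by
      intro a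
      change B ((((h.eps hp hu θ hθ a)⁻¹ : ↥H) : V ≃ₗ[F] V) v)
        ((((h.eps hp hu θ hθ a)⁻¹ : ↥H) : V ≃ₗ[F] V) w) = _
      rw [← map_inv]
      rfl
    rw [Finset.sum_congr rfl fun a _ => e2 a]
    rw [← h0 B v w]
    exact Fintype.sum_equiv ((Multiplicative.toAdd).trans (Equiv.neg A)) _ _ fun a => rfl
  intro g hg
  apply mem_NK_of_preserves hq h2 (by omega : 2 ≤ finrank K V)
  intro B
  refine green_BF (G := ↥H) (fun g B => rhoB F V (g : V ≃ₗ[F] V) B)
    (fun g B B' => rhoB_add _ _ _) (fun B => ?_) (fun g g' B => ?_)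
    ((NK F K V).subgroupOf H)
    (h.eps hp hu θ hθ).range hE hpX h1 hEM h0' (prB K) prB_add
    (prB_prB h2) (fun m hm B => prB_rho hm B) ?_ ⟨g⁻¹, H.inv_mem hg⟩ B
  · change rhoB F V (1 : V ≃ₗ[F] V) B = B
    rw [map_one]
    rfl
  · change rhoB F V ((g : V ≃ₗ[F] V) * (g' : V ≃ₗ[F] V)) B = _
    rw [map_mul]
    rfl
  · intro S hS B
    refine h.gen hp hK hu hu0 θ hθ B S ?_
    intro m hm x hx1 hx2
    refine hS m hm x hx1 ?_
    rintro _ ⟨a, rfl⟩
    exact hx2 a

end Cfsg.Agent.H923.KF
end

-- part: H923/PolyZero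
section
/-!
Sums over a group of `K`-transvections of bilinear expressions vanish (Chevalley-Warning).
-/

set_option autoImplicit false
set_option linter.unusedSectionVars false

namespace Cfsg.Agent.H923.KF

open QuadraticMap Module Cfsg.Agent.LieClassical.OrthCore Cfsg.Agent.LieClassical.OrthTrans
  Cfsg.Agent.LieClassical.OrthSimple Cfsg.Agent.ClassicalGeometry.OrthAutBasic

section Poly

variable {F σ : Type*} [Field F]

/-- Functions given by polynomials of degree at most `d`. -/
def PolyLE (d : ℕ) (f : (σ → F) → F) : Prop :=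
  ∃ P : MvPolynomial σ F, P.totalDegree ≤ d ∧ ∀ x, MvPolynomial.eval x P = f x

theorem PolyLE.congr {d : ℕ} {f g : (σ → F) → F} (hf : PolyLE d f) (h : ∀ x, f x = g x) :
    PolyLE d g := by
  obtain ⟨P, h1, h2⟩ := hf
  exact ⟨P, h1, fun x => by rw [h2, h]⟩

theorem PolyLE.const (d : ℕ) (c : F) : PolyLE d (fun _ : σ → F => c) :=
  ⟨MvPolynomial.C c, by rw [MvPolynomial.totalDegree_C]; exact Nat.zero_le d, fun x => by
    rw [MvPolynomial.eval_C]⟩

theorem PolyLE.coord (i : σ) : PolyLE 1 (fun x : σ → F => x i) :=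
  ⟨MvPolynomial.X i, by rw [MvPolynomial.totalDegree_X], fun x => by rw [MvPolynomial.eval_X]⟩

theorem PolyLE.mono {d d' : ℕ} {f : (σ → F) → F} (hf : PolyLE d f) (h : d ≤ d') :
    PolyLE d' f := by
  obtain ⟨P, h1, h2⟩ := hf
  exact ⟨P, h1.trans h, h2⟩

theorem PolyLE.add {d : ℕ} {f g : (σ → F) → F} (hf : PolyLE d f) (hg : PolyLE d g) :
    PolyLE d (fun x => f x + g x) := by
  obtain ⟨P, h1, h2⟩ := hf
  obtain ⟨R, h3, h4⟩ := hg
  refine ⟨P + R, (MvPolynomial.totalDegree_add P R).trans (max_le h1 h3), fun x => ?_⟩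
  rw [map_add, h2, h4]

theorem PolyLE.mul {d e : ℕ} {f g : (σ → F) → F} (hf : PolyLE d f) (hg : PolyLE e g) :
    PolyLE (d + e) (fun x => f x * g x) := by
  obtain ⟨P, h1, h2⟩ := hf
  obtain ⟨R, h3, h4⟩ := hg
  refine ⟨P * R, (MvPolynomial.totalDegree_mul P R).trans (Nat.add_le_add h1 h3), fun x => ?_⟩
  rw [map_mul, h2, h4]

theorem PolyLE.smul {d : ℕ} {f : (σ → F) → F} (hf : PolyLE d f) (c : F) :
    PolyLE d (fun x => c * f x) := by
  have := (PolyLE.const (σ := σ) 0 c).mul hf
  rwa [zero_add] at this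

theorem PolyLE.sum {κ : Type*} (s : Finset κ) {d : ℕ} {f : κ → (σ → F) → F}
    (hf : ∀ i ∈ s, PolyLE d (f i)) : PolyLE d (fun x => ∑ i ∈ s, f i x) := by
  classical
  induction s using Finset.induction_on with
  | empty => exact (PolyLE.const d 0).congr fun x => by rw [Finset.sum_empty]
  | insert a s ha ih =>
    refine ((hf a (Finset.mem_insert_self a s)).add
      (ih fun i hi => hf i (Finset.mem_insert_of_mem hi))).congr fun x => ?_
    rw [Finset.sum_insert ha]

theorem PolyLE.sum_eq_zero [Fintype F] [Fintype σ] [DecidableEq σ] {d : ℕ} {f : (σ → F) → F}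
    (hf : PolyLE d f)
    (hd : d < (Fintype.card F - 1) * Fintype.card σ) : ∑ x, f x = 0 := by
  obtain ⟨P, h1, h2⟩ := hf
  rw [← MvPolynomial.sum_eval_eq_zero P (lt_of_le_of_lt h1 hd)]
  exact Finset.sum_congr rfl fun x _ => (h2 x).symm

/-- Vector valued version: all linear functionals are polynomial. -/
def PolyV {V : Type*} [AddCommGroup V] [Module F V] (d : ℕ) (f : (σ → F) → V) : Prop :=
  ∀ φ : V →ₗ[F] F, PolyLE d (fun x => φ (f x))

variable {V W : Type*} [AddCommGroup V] [Module F V] [AddCommGroup W] [Module F W]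

theorem PolyV.congr {d : ℕ} {f g : (σ → F) → V} (hf : PolyV d f) (h : ∀ x, f x = g x) :
    PolyV d g := fun φ => (hf φ).congr fun x => by rw [h]

theorem PolyV.const (d : ℕ) (c : V) : PolyV d (fun _ : σ → F => c) := fun φ =>
  PolyLE.const d (φ c)

theorem PolyV.mono {d d' : ℕ} {f : (σ → F) → V} (hf : PolyV d f) (h : d ≤ d') :
    PolyV d' f := fun φ => (hf φ).mono h

theorem PolyV.add {d : ℕ} {f g : (σ → F) → V} (hf : PolyV d f) (hg : PolyV d g) :
    PolyV d (fun x => f x + g x) := fun φ => ((hf φ).add (hg φ)).congr fun x => by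
  rw [map_add]

theorem PolyV.map {d : ℕ} {f : (σ → F) → V} (hf : PolyV d f) (L : V →ₗ[F] W) :
    PolyV d (fun x => L (f x)) := fun φ => hf (φ.comp L)

theorem PolyV.sub {d : ℕ} {f g : (σ → F) → V} (hf : PolyV d f) (hg : PolyV d g) :
    PolyV d (fun x => f x - g x) := fun φ => ((hf φ).add ((hg φ).smul (-1))).congr fun x => by
  rw [map_sub]; ring

/-- A bilinear map applied to polynomial functions. -/
theorem PolyLE.bilin [FiniteDimensional F V] [FiniteDimensional F W] {d e : ℕ}
    {f : (σ → F) → V} {g : (σ → F) → W} (hf : PolyV d f) (hg : PolyV e g)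
    (B : V →ₗ[F] W →ₗ[F] F) : PolyLE (d + e) (fun x => B (f x) (g x)) := by
  let b := Module.finBasis F V
  let c := Module.finBasis F W
  have h : ∀ x, B (f x) (g x) = ∑ i, ∑ j, B (b i) (c j) * (b.coord i (f x) * c.coord j (g x)) := by
    intro x
    conv_lhs => rw [← b.sum_repr (f x), map_sum, LinearMap.sum_apply]
    refine Finset.sum_congr rfl fun i _ => ?_
    conv_lhs => rw [← c.sum_repr (g x), map_sum]
    refine Finset.sum_congr rfl fun j _ => ?_
    rw [map_smul, map_smul, LinearMap.smul_apply, smul_eq_mul, smul_eq_mul, Basis.coord_apply,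
      Basis.coord_apply]
    ring
  refine PolyLE.congr ?_ fun x => (h x).symm
  refine PolyLE.sum _ fun i _ => PolyLE.sum _ fun j _ => ?_
  exact ((hf (b.coord i)).mul (hg (c.coord j))).smul _

theorem PolyV.bilin {X : Type*} [AddCommGroup X] [Module F X] [FiniteDimensional F V]
    [FiniteDimensional F W] {d e : ℕ}
    {f : (σ → F) → V} {g : (σ → F) → W} (hf : PolyV d f) (hg : PolyV e g)
    (B : V →ₗ[F] W →ₗ[F] X) : PolyV (d + e) (fun x => B (f x) (g x)) := fun φ =>
  PolyLE.bilin hf hg (B.compr₂ φ)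

theorem PolyV.lin [Fintype σ] (L : (σ → F) →ₗ[F] V) : PolyV 1 (fun x : σ → F => L x) := by
  classical
  intro φ
  have h : ∀ x : σ → F, φ (L x) = ∑ i, (φ (L (Pi.single i 1))) * x i := by
    intro x
    have h1 : x = ∑ i, x i • (Pi.single i (1 : F) : σ → F) := by
      funext j
      rw [Finset.sum_apply]
      simp [Pi.single_apply]
    conv_lhs => rw [h1, map_sum, map_sum]
    refine Finset.sum_congr rfl fun i _ => ?_
    rw [map_smul, map_smul, smul_eq_mul, mul_comm]
  refine PolyLE.congr ?_ fun x => (h x).symm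
  exact PolyLE.sum _ fun i _ => (PolyLE.coord i).smul _

end Poly

section SumT

variable {F K V : Type*} [Field F] [Field K] [Algebra F K] [AddCommGroup V] [Module F V]
  [Module K V] [IsScalarTower F K V] {q : QuadraticForm K V}

/-- **Sums over transvection groups.** -/
theorem sum_T_eq_zero [Fintype F] [FiniteDimensional F V] [FiniteDimensional F K]
    (h2 : (2 : K) ≠ 0) {A : Type*}
    [AddCommGroup A] [Module F A] [FiniteDimensional F A] [Fintype A]
    (hA : 4 < (Fintype.card F - 1) * finrank F A) {u : V} (hu : q u = 0)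
    (θ : A →ₗ[F] V) (hθ : ∀ a, polar q u (θ a) = 0) (B : BF F V) (v w : V) :
    ∑ a : A, B (T q u (θ a) v) (T q u (θ a) w) = 0 := by
  classical
  let b := Module.finBasis F A
  let e : A ≃ₗ[F] (Fin (finrank F A) → F) := b.equivFun
  have h1 : ∑ a : A, B (T q u (θ a) v) (T q u (θ a) w) =
      ∑ x : Fin (finrank F A) → F, B (T q u (θ (e.symm x)) v) (T q u (θ (e.symm x)) w) :=
    (Fintype.sum_equiv e.symm.toEquiv _ _ fun x => rfl).symm
  rw [h1]
  let L : (Fin (finrank F A) → F) →ₗ[F] V := θ.comp e.symm.toLinearMap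
  have hL : ∀ x, L x = θ (e.symm x) := fun x => rfl
  -- the polar form as a bilinear map over `F`
  let P : V →ₗ[F] V →ₗ[F] K := LinearMap.mk₂ F (fun v w => polar q v w)
    (fun a b c => polar_add_left q a b c)
    (fun r a c => by
      rw [← algebraMap_smul K r a, polar_smul_left, smul_eq_mul, Algebra.smul_def r])
    (fun a b c => polar_add_right q a b c)
    (fun r a c => by
      rw [← algebraMap_smul K r c, polar_smul_right, smul_eq_mul, Algebra.smul_def r])
  have hP : ∀ v w, P v w = polar q v w := fun v w => rfl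
  let S : K →ₗ[F] V := (LinearMap.toSpanSingleton K V u).restrictScalars F
  have hS : ∀ c, S c = c • u := fun c => rfl
  have hLp : PolyV 1 (fun x : Fin (finrank F A) → F => L x) := PolyV.lin L
  have hT : ∀ v : V, PolyV 2 (fun x : Fin (finrank F A) → F => T q u (θ (e.symm x)) v) := by
    intro v
    have h3 : PolyV 2 (fun x : Fin (finrank F A) → F => v + polar q u v • L x -
        polar q (L x) v • u - (((2 : K)⁻¹ * polar q (L x) (L x)) * polar q u v) • u) := by
      refine PolyV.sub (PolyV.sub (PolyV.add (PolyV.const 2 v) ?_) ?_) ?_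
      · exact (hLp.map (Algebra.lsmul F F V (polar q u v))).mono one_le_two
      · exact (hLp.map (S.comp (P.flip v))).mono one_le_two
      · have h4 : PolyV 2 (fun x : Fin (finrank F A) → F => P (L x) (L x)) := hLp.bilin hLp P
        refine (h4.map (S.comp (LinearMap.mulLeft F ((2 : K)⁻¹ * polar q u v)))).congr
          fun x => ?_
        rw [LinearMap.comp_apply, hS, hP, LinearMap.mulLeft_apply]
        congr 1
        ring
    refine h3.congr fun x => ?_
    rw [T_apply hu (hθ _), ← hL, polar_self', ← mul_assoc, inv_mul_cancel₀ h2, one_mul]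
  refine (PolyLE.bilin (hT v) (hT w) B).sum_eq_zero ?_
  rw [Fintype.card_fin]
  exact hA

end SumT

section Thin

variable {F K V : Type*} [Field F] [Field K] [Algebra F K] [AddCommGroup V] [Module F V]
  [Module K V] [IsScalarTower F K V] {q : QuadraticForm K V} {Q : QuadraticForm F V}
  {H : Subgroup (V ≃ₗ[F] V)}

/-- An anisotropic plane orthogonal to a singular vector, in dimension at least `5`. -/
theorem exists_aniso [Finite K] (h2 : (2 : K) ≠ 0) (hG : Good q) (hK : 5 ≤ finrank K V)
    {u : V} (hu : q u = 0) (hu0 : u ≠ 0) :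
    ∃ x₀ x₁ : V, polar q u x₀ = 0 ∧ polar q u x₁ = 0 ∧
      ∀ s t : K, q (s • x₀ + t • x₁) = 0 → s = 0 ∧ t = 0 := by
  obtain ⟨u', hyp⟩ := exists_hyp hG.nondeg hu hu0
  obtain ⟨z, w, hzw, huz, huw, hu'z, hu'w⟩ := hG.exists_hyp2 hyp
  -- a nonsingular vector orthogonal to everything
  obtain ⟨x, hx, hux, hzx, hwx⟩ : ∃ x : V, q x ≠ 0 ∧ polar q u x = 0 ∧ polar q z x = 0 ∧
      polar q w x = 0 := by
    obtain ⟨a, ha0, ha⟩ := exists_perp_ne (Q := q) ![u, u', z, w] (by omega)
    have h0 : polar q u a = 0 := ha 0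
    have h1 : polar q u' a = 0 := ha 1
    have h3 : polar q z a = 0 := ha 2
    have h4 : polar q w a = 0 := ha 3
    by_cases hqa : q a = 0
    · obtain ⟨b, hb⟩ := hG.nondeg.exists_polar_eq ha0 1
      -- project `b`
      set c := b - polar q u' b • u - polar q u b • u' - polar q w b • z - polar q z b • w with hc
      have hzu : polar q z u = 0 := by rw [polar_comm]; exact huz
      have hwu : polar q w u = 0 := by rw [polar_comm]; exact huw
      have hzu' : polar q z u' = 0 := by rw [polar_comm]; exact hu'z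
      have hwu' : polar q w u' = 0 := by rw [polar_comm]; exact hu'w
      have hau : polar q a u = 0 := by rw [polar_comm]; exact h0
      have hau' : polar q a u' = 0 := by rw [polar_comm]; exact h1
      have haz : polar q a z = 0 := by rw [polar_comm]; exact h3
      have haw : polar q a w = 0 := by rw [polar_comm]; exact h4
      have e1 : polar q u c = 0 := by
        rw [hc]
        simp only [polar_sub_right, polar_smul_right, smul_eq_mul, huz, huw, hyp.pair,
          polar_self_of_sing hu]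
        ring
      have e3 : polar q z c = 0 := by
        rw [hc]
        simp only [polar_sub_right, polar_smul_right, smul_eq_mul, hzu, hzu', hzw.pair,
          polar_self_of_sing hzw.left]
        ring
      have e4 : polar q w c = 0 := by
        rw [hc]
        simp only [polar_sub_right, polar_smul_right, smul_eq_mul, hwu, hwu', hzw.pair',
          polar_self_of_sing hzw.right]
        ring
      have e5 : polar q a c = 1 := by
        rw [hc]
        simp only [polar_sub_right, polar_smul_right, smul_eq_mul, hau, hau', haz, haw, hb]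
        ring
      by_cases hqc : q c = 0
      · refine ⟨a + c, ?_, ?_, ?_, ?_⟩
        · rw [Q_add, hqa, hqc, e5]
          simp
        · rw [polar_add_right, h0, e1, add_zero]
        · rw [polar_add_right, h3, e3, add_zero]
        · rw [polar_add_right, h4, e4, add_zero]
      · exact ⟨c, hqc, e1, e3, e4⟩
    · exact ⟨a, hqa, h0, h3, h4⟩
  -- a nonsquare
  have hK2 : ringChar K ≠ 2 := by
    intro hc
    apply h2
    have := CharP.cast_eq_zero K (ringChar K)
    rw [hc] at this
    exact_mod_cast this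
  obtain ⟨ν, hν⟩ := FiniteField.exists_nonsquare hK2
  refine ⟨x, z + (-(ν * q x)) • w, hux, ?_, ?_⟩
  · rw [polar_add_right, polar_smul_right, huz, huw, smul_zero, add_zero]
  intro s t hst
  have hxz : polar q x z = 0 := by rw [polar_comm]; exact hzx
  have hxw : polar q x w = 0 := by rw [polar_comm]; exact hwx
  have e1 : q (s • x + t • (z + (-(ν * q x)) • w)) = (s ^ 2 - ν * t ^ 2) * q x := by
    rw [Q_add, QuadraticMap.map_smul, QuadraticMap.map_smul, Q_add, QuadraticMap.map_smul,
      hzw.left, hzw.right]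
    simp only [polar_smul_left, polar_smul_right, polar_add_right, smul_eq_mul, hxz, hxw, hzw.pair]
    ring
  rw [e1] at hst
  have h3 : s ^ 2 - ν * t ^ 2 = 0 := (mul_eq_zero.1 hst).resolve_right hx
  by_cases ht : t = 0
  · subst ht
    refine ⟨?_, rfl⟩
    have : s ^ 2 = 0 := by linear_combination h3
    exact pow_eq_zero_iff (two_ne_zero) |>.1 this
  · exfalso
    apply hν
    refine ⟨s / t, ?_⟩
    field_simp
    linear_combination -h3

/-- A nonsingular vector orthogonal to a singular one. -/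
theorem exists_nonsing_perp' (hq : Nondeg q) (hK : 3 ≤ finrank K V) {u : V} (hu : q u = 0)
    (hu0 : u ≠ 0) : ∃ x, q x ≠ 0 ∧ polar q u x = 0 := by
  obtain ⟨u', hyp⟩ := exists_hyp hq hu hu0
  obtain ⟨a, b, ha1, ha2, hb1, hb2, hab⟩ := exists_perp2 hq hK hyp
  rcases exists_nonsing hab with h | h | h
  · exact ⟨a, h, ha1⟩
  · exact ⟨b, h, hb1⟩
  · exact ⟨a + b, h, by rw [polar_add_right, ha1, hb1, add_zero]⟩

/-- **Thin overgroups normalise `K`** (numerical form). -/
theorem Over.le_NK [Finite K] [FiniteDimensional F V] (h : Over q Q H) {p : ℕ}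
    [Fact p.Prime] [CharP F p] (hp : p ≠ 2)
    (hr : (finrank F K).Prime) (hK : 3 ≤ finrank K V)
    (hex : ¬ (p = 3 ∧ finrank F K = 3 ∧ finrank K V = 3))
    {u : V} (hu : q u = 0) (hu0 : u ≠ 0) (hthin : Thin q H u)
    (hpl : ¬ (Nat.card F = 3 ∧ finrank F K = 2) ∨
      ∃ x₀ x₁ : V, polar q u x₀ = 0 ∧ polar q u x₁ = 0 ∧
        ∀ s t : K, q (s • x₀ + t • x₁) = 0 → s = 0 ∧ t = 0) :
    H ≤ NK F K V := by
  classical
  have := Fintype.ofFinite K
  have hfF : Finite F := finiteF F K
  have := Fintype.ofFinite F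
  have hfK : FiniteDimensional F K := Module.Finite.of_finite
  have hcK : CharP K p := charP_of_injective_algebraMap (algebraMap F K).injective p
  have h2K : (2 : K) ≠ 0 := CharP.cast_ne_zero_of_ne_of_prime K Nat.prime_two hp
  have hcF : 3 ≤ Fintype.card F := by
    obtain ⟨n, hn⟩ := FiniteField.card F p
    have h3 := (Fact.out : p.Prime).two_le
    have h4 : p ≤ Fintype.card F := by
      rw [hn.2]
      exact Nat.le_self_pow n.pos.ne' p
    omega
  have hr2 := hr.two_le
  rcases hpl with hpl | ⟨x₀, x₁, h0, h1, han⟩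
  · obtain ⟨x, hx, hux⟩ := exists_nonsing_perp' h.nondeg hK hu hu0
    let θ : K →ₗ[F] V := (LinearMap.toSpanSingleton K V x).restrictScalars F
    have hθ : ∀ a, polar q u (θ a) = 0 := by
      intro a
      change polar q u (a • x) = 0
      rw [polar_smul_right, hux, smul_zero]
    refine h.le_NK_of_thin hp hr hK hex hu hu0 hthin (θ : K →+ V) hθ ?_ ?_
    · intro a ha
      change q (a • x) ≠ 0
      rw [QuadraticMap.map_smul]
      exact mul_ne_zero (mul_ne_zero ha ha) hx
    · refine sum_T_eq_zero h2K ?_ hu θ hθ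
      by_cases hr3 : 3 ≤ finrank F K
      · nlinarith [Nat.sub_add_cancel (show 1 ≤ Fintype.card F by omega)]
      · have hr' : finrank F K = 2 := by omega
        have hc' : Fintype.card F ≠ 3 := by
          intro hc
          apply hpl
          rw [Nat.card_eq_fintype_card]
          exact ⟨hc, hr'⟩
        rw [hr']
        omega
  · let θ : K × K →ₗ[F] V := LinearMap.coprod
      ((LinearMap.toSpanSingleton K V x₀).restrictScalars F)
      ((LinearMap.toSpanSingleton K V x₁).restrictScalars F)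
    have hθv : ∀ a : K × K, θ a = a.1 • x₀ + a.2 • x₁ := fun a => rfl
    have hθ : ∀ a, polar q u (θ a) = 0 := by
      intro a
      rw [hθv, polar_add_right, polar_smul_right, polar_smul_right, h0, h1, smul_zero, smul_zero,
        add_zero]
    refine h.le_NK_of_thin hp hr hK hex hu hu0 hthin (θ : K × K →+ V) hθ ?_ ?_
    · intro a ha hq0
      apply ha
      have := han a.1 a.2 hq0
      exact Prod.ext this.1 this.2
    · refine sum_T_eq_zero h2K ?_ hu θ hθ
      rw [Module.finrank_prod]
      nlinarith [Nat.sub_add_cancel (show 1 ≤ Fintype.card F by omega)]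

end Thin

end Cfsg.Agent.H923.KF
end

-- part: H923/Swap
section
/-!
Overgroups of `N_Ω(K)` which are not thin: elements trivial on `u^⊥`, the torus, and a parity
argument (the determinant of an isometry which stabilises `K u` and is trivial on the complement
of the hyperbolic `K`-plane is one).
-/

set_option autoImplicit false
set_option linter.unusedSectionVars false

namespace Cfsg.Agent.H923.KF

open QuadraticMap Module Cfsg.Agent.LieClassical.OrthCore Cfsg.Agent.LieClassical.OrthTrans
  Cfsg.Agent.LieClassical.OrthSimple Cfsg.Agent.ClassicalGeometry.OrthAutBasic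
open scoped commutatorElement

section Det

variable {F V : Type*} [Field F] [AddCommGroup V] [Module F V] {Q : QuadraticForm F V}
  [FiniteDimensional F V]

/-- Adjoint maps have the same determinant. -/
theorem det_adjoint (hQ : Nondeg Q) (A C : V →ₗ[F] V)
    (h : ∀ v w, polar Q (A v) w = polar Q v (C w)) : LinearMap.det A = LinearMap.det C := by
  have hinj : Function.Injective (polarBilin Q : V →ₗ[F] Module.Dual F V) := by
    rw [injective_iff_map_eq_zero]
    intro x hx
    apply hQ
    intro y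
    exact LinearMap.congr_fun hx y
  let Φ : V ≃ₗ[F] Module.Dual F V := LinearEquiv.ofBijective (polarBilin Q)
    ⟨hinj, (LinearMap.injective_iff_surjective_of_finrank_eq_finrank
      (Subspace.dual_finrank_eq (K := F) (V := V)).symm).1 hinj⟩
  have h1 : A.dualMap = (Φ : V →ₗ[F] Module.Dual F V) ∘ₗ C ∘ₗ
      (Φ.symm : Module.Dual F V →ₗ[F] V) := by
    apply LinearMap.ext
    intro φ
    obtain ⟨w, rfl⟩ := Φ.surjective φ
    apply LinearMap.ext
    intro v
    rw [LinearMap.comp_apply, LinearMap.comp_apply, LinearEquiv.coe_coe, LinearEquiv.coe_coe,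
      LinearEquiv.symm_apply_apply, LinearMap.dualMap_apply]
    change polar Q w (A v) = polar Q (C w) v
    rw [polar_comm, h, polar_comm]
  rw [← LinearMap.det_dualMap A, h1, LinearMap.det_conj]

theorem det_of_mem_E (hG : Good Q) {g : V ≃ₗ[F] V} (hg : g ∈ E Q) :
    LinearMap.det (g : V →ₗ[F] V) = 1 := by
  rw [← hG.commutator_eq_E] at hg
  have h1 : ⁅O Q, O Q⁆ ≤ (LinearEquiv.det (R := F) (M := V)).ker := by
    rw [Subgroup.commutator_le]
    intro a _ b _
    rw [MonoidHom.mem_ker, map_commutatorElement, commutatorElement_eq_one_iff_mul_comm, mul_comm]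
  have h2 : LinearEquiv.det g = 1 := h1 hg
  have h3 := congrArg Units.val h2
  rwa [LinearEquiv.coe_det] at h3

end Det

variable {F K V : Type*} [Field F] [Field K] [Algebra F K] [AddCommGroup V] [Module F V]
  [Module K V] [IsScalarTower F K V] {q : QuadraticForm K V} {Q : QuadraticForm F V}
  {H : Subgroup (V ≃ₗ[F] V)} [Finite K] [FiniteDimensional F V]

/-- The determinant of an isometry stabilising `K u`, trivial on the orthogonal complement of a
hyperbolic `K`-plane. -/
theorem det_eq_one_of_line (hT : IsTr q Q) (hG : Good Q) {p : ℕ} [Fact p.Prime] [CharP F p]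
    (hp : p ≠ 2) {u u' : V} (hyp : Hyp q u u') {h : V ≃ₗ[F] V} (hhO : h ∈ O Q)
    (hU : ∀ c : K, ∃ d : K, h (c • u) = d • u)
    (hW : ∀ w, polar q u w = 0 → polar q u' w = 0 → h w = w) :
    LinearMap.det (h : V →ₗ[F] V) = 1 := by
  -- the projections
  let P : V →ₗ[F] V := ((polarBilin q u').smulRight u).restrictScalars F
  let P' : V →ₗ[F] V := ((polarBilin q u).smulRight u').restrictScalars F
  have hP : ∀ v, P v = polar q u' v • u := fun v => rfl
  have hP' : ∀ v, P' v = polar q u v • u' := fun v => rfl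
  have hinv : ∀ v, h (h⁻¹ v) = v := fun v => h.apply_symm_apply v
  have hinv' : ∀ v, h⁻¹ (h v) = v := fun v => h.symm_apply_apply v
  have hu0 : u ≠ 0 := hyp.left_ne
  have hsurj := line_surj hu0 hU
  have hU' : ∀ c : K, ∃ d : K, h⁻¹ (c • u) = d • u := by
    intro c
    obtain ⟨d, hd⟩ := hsurj c
    exact ⟨d, by rw [← hd, hinv']⟩
  have hPu : ∀ c : K, P (c • u) = c • u := by
    intro c
    rw [hP, polar_smul_right, hyp.pair', smul_eq_mul, mul_one]
  have hPh : ∀ v, P (h (P v)) = h (P v) := by
    intro v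
    rw [hP v]
    obtain ⟨d, hd⟩ := hU (polar q u' v)
    rw [hd, hPu]
  have hPh' : ∀ v, P (h⁻¹ (P v)) = h⁻¹ (P v) := by
    intro v
    rw [hP v]
    obtain ⟨d, hd⟩ := hU' (polar q u' v)
    rw [hd, hPu]
  have hPP : ∀ v, P (P v) = P v := fun v => by rw [hP v, hPu]
  have hadj : ∀ v w, polar Q (P v) w = polar Q v (P' w) := by
    intro v w
    rw [hT.polar, hT.polar, hP, hP', polar_smul_left, polar_smul_right, polar_comm q v u',
      smul_eq_mul, smul_eq_mul, mul_comm]
  have hhadj : ∀ v w, polar Q (h⁻¹ v) w = polar Q v (h w) := by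
    intro v w
    rw [← polar_map hhO, hinv]
  have hPs : ∀ v, Q (P v) = 0 := fun v => hT.sing_smul hyp.left _
  have hPs' : ∀ v, Q (P' v) = 0 := fun v => hT.sing_smul hyp.right _
  -- the maps
  let A : V →ₗ[F] V := LinearMap.id + ((h : V →ₗ[F] V) - LinearMap.id) ∘ₗ P
  let A' : V →ₗ[F] V := LinearMap.id + (((h⁻¹ : V ≃ₗ[F] V) : V →ₗ[F] V) - LinearMap.id) ∘ₗ P
  let C : V →ₗ[F] V := LinearMap.id + P' ∘ₗ ((h : V →ₗ[F] V) - LinearMap.id)
  have hA : ∀ v, A v = v + (h (P v) - P v) := fun v => rfl
  have hA' : ∀ v, A' v = v + (h⁻¹ (P v) - P v) := fun v => rfl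
  have hC : ∀ v, C v = v + P' (h v - v) := fun v => rfl
  have hAA : A ∘ₗ A' = LinearMap.id := by
    apply LinearMap.ext
    intro v
    rw [LinearMap.comp_apply, LinearMap.id_apply, hA, hA', map_add, map_sub, hPh', hPP]
    rw [add_sub_cancel, hinv]
    abel
  have hAC : ∀ v w, polar Q (A' v) w = polar Q v (C w) := by
    intro v w
    rw [hA', hC, polar_add_left, polar_add_right, polar_sub_left, hhadj, hadj, hadj, map_sub,
      polar_sub_right]
  have hdet : LinearMap.det (A ∘ₗ C) = 1 := by
    rw [LinearMap.det_comp, ← det_adjoint hG.nondeg A' C hAC, ← LinearMap.det_comp, hAA,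
      LinearMap.det_id]
  -- the isometry
  have hPP' : ∀ v, P (P' v) = 0 := by
    intro v
    rw [hP, hP', polar_smul_right, hyp.polar_right, smul_zero, zero_smul]
  have hB : ∀ v, (A ∘ₗ C) v = v + (h (P v) - P v) + P' (h v - v) := by
    intro v
    rw [LinearMap.comp_apply, hA, hC, map_add, hPP', add_zero]
    abel
  have hBO : ∀ v, Q ((A ∘ₗ C) v) = Q v := by
    intro v
    set x := h (P v) - P v with hx
    set y := P' (h v - v) with hy
    have hxP : P x = x := by rw [hx, map_sub, hPh, hPP]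
    have hx0 : Q x = 0 := by rw [← hxP]; exact hPs _
    have hy0 : Q y = 0 := hPs' _
    have e1 : polar Q v x = polar Q v (h (P v)) - polar Q v (P v) := by
      rw [hx, polar_sub_right]
    have e2 : polar Q v y = polar Q (P v) (h v) - polar Q (P v) v := by
      rw [hy, ← hadj, polar_sub_right]
    have e3 : polar Q x y = polar Q (h (P v)) (h v) - polar Q (h (P v)) v -
        polar Q (P v) (h v) + polar Q (P v) v := by
      rw [hy, ← hadj, hxP, hx, polar_sub_left, polar_sub_right, polar_sub_right]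
      ring
    have e4 : polar Q (h (P v)) (h v) = polar Q (P v) v := polar_map hhO _ _
    rw [hB, Q_add, Q_add, hx0, hy0, polar_add_left, e1, e2, e3, e4, polar_comm Q v (h (P v)),
      polar_comm Q v (P v)]
    ring
  have hBinj : Function.Injective (A ∘ₗ C) := by
    rw [injective_iff_map_eq_zero]
    intro v hv
    apply hG.nondeg
    intro w
    have : polar Q v w = polar Q ((A ∘ₗ C) v) ((A ∘ₗ C) w) := by
      simp only [QuadraticMap.polar, ← map_add, hBO]
    rw [this, hv, polar_zero_left]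
  let g₀ : V ≃ₗ[F] V := LinearEquiv.ofInjectiveEndo (A ∘ₗ C) hBinj
  have hg₀ : ∀ v, g₀ v = (A ∘ₗ C) v := fun _ => rfl
  have hg₀O : g₀ ∈ O Q := fun v => hBO v
  have hg₀d : LinearMap.det (g₀ : V →ₗ[F] V) = 1 := by
    rw [← hdet]
    rfl
  have hg₀e : ∀ w, polar q u w = 0 → g₀ w = h w := by
    intro w hw
    obtain ⟨a, w₀, rfl, hw₀, hw₀'⟩ : ∃ (a : K) (w₀ : V), w = a • u + w₀ ∧ polar q u w₀ = 0 ∧
        polar q u' w₀ = 0 := by
      refine ⟨polar q u' w, w - polar q u' w • u, by abel, ?_, ?_⟩
      · rw [polar_sub_right, polar_smul_right, hyp.polar_left, hw, smul_zero, sub_zero]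
      · rw [polar_sub_right, polar_smul_right, hyp.pair', smul_eq_mul, mul_one, sub_self]
    have e1 : P (a • u + w₀) = a • u := by
      rw [map_add, hPu, hP, hw₀', zero_smul, add_zero]
    have e2 : P' (h (a • u + w₀) - (a • u + w₀)) = 0 := by
      obtain ⟨d, hd⟩ := hU a
      rw [map_add, hW w₀ hw₀ hw₀', hd, hP', add_sub_add_right_eq_sub, ← sub_smul,
        polar_smul_right, hyp.polar_left, smul_zero, zero_smul]
    rw [hg₀, hB, e1, e2, map_add, hW w₀ hw₀ hw₀']
    abel
  have hρ : ∀ w, polar q u w = 0 → (g₀⁻¹ * h) w = w := by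
    intro w hw
    change g₀⁻¹ (h w) = w
    rw [← hg₀e w hw]
    exact g₀.symm_apply_apply w
  have hρO : g₀⁻¹ * h ∈ O Q := (O Q).mul_mem ((O Q).inv_mem hg₀O) hhO
  have hρR : Rad q u (g₀⁻¹ * h) := by
    refine ⟨fun c => hρ _ ?_, fun w hw => ⟨0, ?_⟩⟩
    · rw [polar_smul_right, hyp.polar_left, smul_zero]
    · rw [hρ w hw, zero_smul, add_zero]
  have hρd := det_of_mem_E hG (hρR.mem_E hT hG hp hρO)
  have e : h = g₀ * (g₀⁻¹ * h) := by group
  have e' : (h : V →ₗ[F] V) = (g₀ : V →ₗ[F] V) ∘ₗ ((g₀⁻¹ * h : V ≃ₗ[F] V) : V →ₗ[F] V) := by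
    conv_lhs => rw [e]
    rfl
  rw [e', LinearMap.det_comp, hg₀d, hρd, one_mul]

/-- If all elements of `H` trivial on `u^⊥` are trivial then `H` is thin at `u`. -/
theorem Over.thin_of_trivial (h : Over q Q H) {p : ℕ} [Fact p.Prime] [CharP F p] (hp : p ≠ 2)
    {u u' : V} (hyp : Hyp q u u')
    (hz : ∀ z ∈ H, (∀ w, polar q u w = 0 → z w = w) → z = 1) : Thin q H u := by
  intro g hg hR
  have hT := h.tr
  have hu := hyp.left
  have hgO := h.leO hg
  set a := g u' - u' with ha
  have hau : polar q u a = 0 := hR.sub_perp hT hgO u'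
  have key : ∀ y, polar q u y = 0 → g y = T q u a y := by
    intro y hy
    have hTy := h.T_mem hp u y
    have hone : (res F (T q u y) * g)⁻¹ * (g * res F (T q u y)) = 1 := by
      apply hz _ (H.mul_mem (H.inv_mem (H.mul_mem hTy hg)) (H.mul_mem hg hTy))
      intro w hw
      have e1 : (g * res F (T q u y)) w = (res F (T q u y) * g) w := by
        obtain ⟨c, hc⟩ := hR.2 w hw
        change g (T q u y w) = T q u y (g w)
        rw [T_apply_perp hu hy hw, map_sub, hR.1, hc, map_add, map_smul, T_apply_self hu hy,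
          T_apply_perp hu hy hw]
        abel
      change (res F (T q u y) * g)⁻¹ ((g * res F (T q u y)) w) = w
      rw [e1]
      exact (res F (T q u y) * g).symm_apply_apply w
    have hcomm : g * res F (T q u y) = res F (T q u y) * g := (inv_mul_eq_one.1 hone).symm
    have h1 : g (T q u y u') = T q u y (g u') := DFunLike.congr_fun hcomm u'
    have h2 : g u' = u' + a := by rw [ha]; abel
    rw [h2, map_add, T_apply_perp hu hy hau, T_apply hu hy, hyp.pair, one_smul, mul_one, map_sub,
      map_sub, map_add, hR.1, hR.1, h2] at h1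
    rw [T_apply_perp hu hau hy, polar_comm q a y]
    have h3 : g y = (u' + a + g y - polar q y u' • u - q y • u) - (u' + a) +
      polar q y u' • u + q y • u := by abel
    rw [h3, h1]
    abel
  refine ⟨a, hau, ?_⟩
  have h1 : (res F (T q u a))⁻¹ * g = 1 := by
    apply hz _ (H.mul_mem (H.inv_mem (h.T_mem hp u a)) hg)
    intro w hw
    change (res F (T q u a))⁻¹ (g w) = w
    rw [key w hw]
    exact (res F (T q u a)).symm_apply_apply w
  exact (inv_mul_eq_one.1 h1).symm

/-- The torus: multiplication by squares on a hyperbolic `K`-plane. -/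
theorem Over.exists_torus (h : Over q Q H) {u u' : V} (hyp : Hyp q u u') {c : K} (hc : c ≠ 0) :
    ∃ t : V ≃ₗ[K] V, res F t ∈ H ∧ t u = c ^ 2 • u ∧ t u' = (c ^ 2)⁻¹ • u' ∧
      ∀ w, polar q u w = 0 → polar q u' w = 0 → t w = w := by
  have key : ∀ a : K, a ≠ 0 → ∃ s : V ≃ₗ[K] V, s ∈ O q ∧ s u = a • u' ∧ s u' = a⁻¹ • u ∧
      ∀ w, polar q u w = 0 → polar q u' w = 0 → s w = w := by
    intro a ha
    have hq : q (u - a • u') = -a := by
      rw [sub_eq_add_neg, ← neg_smul, Q_add, QuadraticMap.map_smul, hyp.left, hyp.right,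
        polar_smul_right, hyp.pair]
      simp
    have hq0 : q (u - a • u') ≠ 0 := by rw [hq]; exact neg_ne_zero.2 ha
    refine ⟨refl q _ hq0, refl_mem_O hq0, ?_, ?_, ?_⟩
    · rw [refl_apply, hq, polar_sub_left, polar_smul_left, hyp.pair', hyp.polar_left, smul_eq_mul]
      match_scalars <;> field_simp <;> ring
    · rw [refl_apply, hq, polar_sub_left, polar_smul_left, hyp.pair, hyp.polar_right, smul_eq_mul]
      match_scalars <;> field_simp <;> ring
    · intro w hw hw'
      rw [refl_apply, polar_sub_left, polar_smul_left, hw, hw', smul_zero, sub_zero, mul_zero,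
        zero_smul, sub_zero]
  obtain ⟨s, hsO, hsu, hsu', hsw⟩ := key 1 one_ne_zero
  obtain ⟨r, hrO, hru, hru', hrw⟩ := key c⁻¹ (inv_ne_zero hc)
  have hst : (r * s) ∈ O q := (O q).mul_mem hrO hsO
  have hst2 : res F ((r * s) * (r * s)) ∈ H := by
    apply h.mem _ _ (res_mem_NK _)
    rw [map_mul]
    exact sq_mem_E h.good (h.tr.res_mem hst)
  have e1 : (r * s) u = c • u := by
    change r (s u) = _
    rw [hsu, one_smul, hru', inv_inv]
  have e2 : (r * s) u' = c⁻¹ • u' := by
    change r (s u') = _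
    rw [hsu', inv_one, one_smul, hru]
  have e3 : ∀ w, polar q u w = 0 → polar q u' w = 0 → (r * s) w = w := by
    intro w hw hw'
    change r (s w) = _
    rw [hsw w hw hw', hrw w hw hw']
  refine ⟨(r * s) * (r * s), hst2, ?_, ?_, ?_⟩
  · change (r * s) ((r * s) u) = _
    rw [e1, map_smul, e1, smul_smul, pow_two]
  · change (r * s) ((r * s) u') = _
    rw [e2, map_smul, e2, smul_smul, pow_two, mul_inv]
  · intro w hw hw'
    change (r * s) ((r * s) w) = _
    rw [e3 w hw hw', e3 w hw hw']

end Cfsg.Agent.H923.KF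
end
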